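/-
Preparations for groups with three degrees of irreducible characters.

Main results: `dvd_mul_index` (the degree of a character over a solvable quotient divides the
degree of a constituent times the index), `deg_eq_of_coprime`, `derived_le`, `le_kerSub_of_monomial`.
-/
import Cfsg.Agent.Lib.CharApp.TwoDegrees
import Cfsg.Agent.Lib.CharApp.Broline

set_option autoImplicit false
set_option linter.style.haveILetI false

namespace Cfsg.Agent.CharApp.ThreeDegrees

open Cfsg Cfsg.Agent.Char Cfsg.Agent.CharApp.DegreeSets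
open Cfsg.Agent.Codegree (kerSub mem_kerSub kerSub_normal inflate)
open scoped commutatorElement ComplexConjugate

universe u

/-- Every degree is `1`, `a` or `b`. -/
def Deg3 (G : Type*) [Group G] (a b : ℕ) : Prop :=
  ∀ χ : IrrCharacter G, charDegree (χ : G → ℂ) = 1 ∨ charDegree (χ : G → ℂ) = a ∨
    charDegree (χ : G → ℂ) = b

variable {G : Type u} [Group G] [Finite G]

theorem commutator_le_kerSub {χ : IrrCharacter G} (h : charDegree (χ : G → ℂ) = 1) :
    commutator G ≤ kerSub χ := fun _ hx => mem_kerSub.2 (apply_commutator_of_linear χ.2 h hx)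

theorem eq_bot_of_le_kerSub (D : Subgroup G) (h : ∀ χ : IrrCharacter G, D ≤ kerSub χ) : D = ⊥ := by
  haveI := Fintype.ofFinite G
  refine (Subgroup.eq_bot_iff_forall _).2 fun x hx => ?_
  exact isConj_one_left.mp ((Char.isConj_iff_irr x 1).mpr fun φ => mem_kerSub.1 (h φ hx))

theorem le_kerSub_inflate (N : Subgroup G) [N.Normal] (ψ : IrrCharacter (G ⧸ N)) :
    N ≤ kerSub (inflate N ψ) := fun x hx => mem_kerSub.2 (by
  rw [Codegree.inflate_apply, Codegree.inflate_apply, (QuotientGroup.eq_one_iff x).2 hx,
    QuotientGroup.mk_one])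

theorem deg_inflate (N : Subgroup G) [N.Normal] (ψ : IrrCharacter (G ⧸ N)) :
    charDegree (inflate N ψ : G → ℂ) = charDegree (ψ : G ⧸ N → ℂ) := by
  unfold charDegree
  rw [Codegree.inflate_apply]
  rfl

theorem Deg3.quotient {a b : ℕ} (h : Deg3 G a b) (N : Subgroup G) [N.Normal] :
    Deg3 (G ⧸ N) a b := fun ψ => by
  have := h (inflate N ψ)
  rwa [deg_inflate] at this

/-- Terms of the derived series inside a subgroup. -/
theorem derived_le (D : Subgroup G) (i : ℕ) (h : derivedSeries G i ≤ D) :
    derivedSeries G (i + 1) ≤ ⁅D, D⁆ ∧ derivedSeries G (i + 2) ≤ ⁅⁅D, D⁆, ⁅D, D⁆⁆ := by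
  have h1 : derivedSeries G (i + 1) ≤ ⁅D, D⁆ := by
    rw [derivedSeries_succ]; exact Subgroup.commutator_mono h h
  exact ⟨h1, by
    rw [show i + 2 = i + 1 + 1 from rfl, derivedSeries_succ]
    exact Subgroup.commutator_mono h1 h1⟩

theorem derived_le_of_quotient (N : Subgroup G) [N.Normal] (k : ℕ)
    (h : derivedSeries (G ⧸ N) k = ⊥) : derivedSeries G k ≤ N := by
  rw [← QuotientGroup.ker_mk' N, ← Subgroup.map_eq_bot_iff,
    map_derivedSeries_eq (QuotientGroup.mk'_surjective N), h]

/-- A subgroup with degrees among `1` and `m` is metabelian. -/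
theorem metabelian_of_two (D : Subgroup G) (m : ℕ)
    (h : ∀ θ : IrrCharacter D, charDegree (θ : D → ℂ) = 1 ∨ charDegree (θ : D → ℂ) = m) :
    ⁅⁅D, D⁆, ⁅D, D⁆⁆ = ⊥ := by
  have e : ⁅D, D⁆ = (commutator D).map D.subtype := (Subgroup.map_subtype_commutator D).symm
  rw [e, ← Subgroup.map_commutator, Subgroup.map_eq_bot_iff,
    Subgroup.ker_subtype, le_bot_iff, Subgroup.commutator_eq_bot_iff_le_centralizer]
  intro x hx y hy
  by_cases hlin : ∀ θ : IrrCharacter D, charDegree (θ : D → ℂ) = 1
  · exact comm_of_forall_degree_one (fun θ => by rw [apply_one θ.2, hlin θ, Nat.cast_one]) y x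
  · push Not at hlin
    obtain ⟨θ, hθ⟩ := hlin
    exact TwoDegrees.TwoDeg.commutator_comm (m := m)
      ⟨h, ⟨θ, (h θ).resolve_left hθ⟩, fun e => hθ ((h θ).elim id fun e' => e'.trans e)⟩ y hy x hx

/-! ### Degrees over a solvable quotient -/

theorem exists_normal_prime_index_over (N : Subgroup G) [N.Normal] [Group.IsSolvable (G ⧸ N)]
    (hN : N ≠ ⊤) : ∃ M : Subgroup G, M.Normal ∧ N ≤ M ∧ M.index.Prime := by
  have hne : commutator G ⊔ N ≠ ⊤ := by
    intro h
    haveI : Nontrivial (G ⧸ N) := QuotientGroup.nontrivial_iff.2 hN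
    refine (Group.IsSolvable.commutator_lt_top_of_nontrivial (G ⧸ N)).ne ?_
    have hs := QuotientGroup.mk'_surjective N
    rw [commutator_def, ← Subgroup.map_top_of_surjective _ hs, ← Subgroup.map_commutator,
      ← commutator_def, ← sup_bot_eq (Subgroup.map _ (commutator G)),
      ← (Subgroup.map_eq_bot_iff N (f := QuotientGroup.mk' N)).2 (QuotientGroup.ker_mk' N).ge,
      ← Subgroup.map_sup, h]
  obtain ⟨M, hM, hle⟩ := (eq_top_or_exists_le_coatom (commutator G ⊔ N)).resolve_left hne
  haveI hMn : M.Normal := Subgroup.Normal.mk fun m hm g => by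
    rw [show g * m * g⁻¹ = ⁅g, m⁆ * m by rw [commutatorElement_def]; group]
    exact M.mul_mem (hle (Subgroup.mem_sup_left
      (Subgroup.commutator_mem_commutator (Subgroup.mem_top g) (Subgroup.mem_top m)))) hm
  refine ⟨M, hMn, le_sup_right.trans hle, ?_⟩
  haveI : Nontrivial (G ⧸ M) := QuotientGroup.nontrivial_iff.2 hM.1
  haveI : IsSimpleGroup (G ⧸ M) := ⟨fun H _ => by
    rcases eq_or_ne (H.comap (QuotientGroup.mk' M)) M with he | he
    · left
      rw [← Subgroup.map_comap_eq_self_of_surjective (QuotientGroup.mk'_surjective M) H, he,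
        Subgroup.map_eq_bot_iff, QuotientGroup.ker_mk']
    · right
      have := hM.2 _ (lt_of_le_of_ne ((QuotientGroup.ker_mk' M).symm.le.trans
        (Subgroup.ker_le_comap _ H)) he.symm)
      rw [← Subgroup.map_comap_eq_self_of_surjective (QuotientGroup.mk'_surjective M) H, this,
        Subgroup.map_top_of_surjective _ (QuotientGroup.mk'_surjective M)]⟩
  have hcomm : ∀ x y : G ⧸ M, x * y = y * x := fun x y => by
    induction x using QuotientGroup.induction_on with
    | H x => induction y using QuotientGroup.induction_on with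
      | H y =>
        rw [← QuotientGroup.mk_mul, ← QuotientGroup.mk_mul, QuotientGroup.eq]
        have := hle (Subgroup.mem_sup_left (T := N)
          (Subgroup.commutator_mem_commutator (Subgroup.mem_top y⁻¹) (Subgroup.mem_top x⁻¹)))
        simpa [commutatorElement_def, mul_assoc] using this
  letI : CommGroup (G ⧸ M) := { (inferInstance : Group (G ⧸ M)) with mul_comm := hcomm }
  rw [M.index_eq_card]
  exact IsSimpleGroup.prime_card

/-- The restriction of an irreducible character to a normal subgroup of prime index. -/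
theorem degree_step (M : Subgroup G) [M.Normal] [Fintype M] (hq : M.index.Prime) {χ : G → ℂ}
    (hχ : IsIrrCharacter G χ) {η : M → ℂ} (hη : IsIrrCharacter M η)
    (h : classInner (fun x : M => χ x) η ≠ 0) : charDegree χ ∣ charDegree η * M.index := by
  classical
  haveI := Fintype.ofFinite G
  obtain ⟨e, he0, hee, hdeg, hself⟩ := degree_over M hχ hη h
  have ht : (inertia M η).index ∣ M.index :=
    Subgroup.index_dvd_of_le (le_inertia M (IsIrrCharacter.isClassFunction hη))
  have hb := multiplicity_sq_le_index M hχ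
  rw [hself, show ((e : ℂ) ^ 2 * ((inertia M η).index : ℂ)) =
    ((e ^ 2 * (inertia M η).index : ℕ) : ℂ) by push_cast; rfl, Complex.natCast_re, Nat.cast_le] at hb
  rcases (Nat.dvd_prime hq).1 ht with h1 | h1
  swap
  · have he1 : e = 1 := by
      rcases Nat.lt_or_ge e 2 with h2 | h2
      · omega
      · exact absurd hb (not_le.2 (by
          rw [h1]; exact lt_mul_of_one_lt_left hq.pos (Nat.one_lt_pow two_ne_zero (by omega))))
    rw [hdeg, he1, one_mul, h1, mul_comm]
  -- `η` is invariant
  suffices he1 : e = 1 by rw [hdeg, he1, h1, one_mul, one_mul]; exact dvd_mul_right _ _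
  haveI : Fintype (IrrCharacter G) := Fintype.ofFinite _
  rw [h1, mul_one] at hdeg hb
  rw [h1, Nat.cast_one, mul_one] at hself
  -- the constituents of `η` induced to `G` obtained by twisting `χ`
  obtain ⟨c, hc, hcin⟩ := IsCharacter.decompose (IsCharacter.indFun M (IsIrrCharacter.isCharacter hη))
  have hfro : ∀ φ : IrrCharacter G,
      (classInner (fun x : M => (φ : G → ℂ) x) η) = c φ := by
    intro φ
    have := hcin φ
    rw [frobenius_reciprocity M _ (IsIrrCharacter.isClassFunction φ.2)] at this
    rw [← classInner_conj_symm, this, Complex.conj_natCast]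
  have hsum : M.index * charDegree η = ∑ φ : IrrCharacter G, c φ * charDegree (φ : G → ℂ) := by
    have := congrFun hc 1
    rw [indFun_one_apply] at this
    simp only [Finset.sum_apply, Pi.smul_apply, smul_eq_mul, apply_one (Subtype.prop _),
      apply_one hη] at this
    exact_mod_cast this
  haveI : Fact M.index.Prime := ⟨hq⟩
  haveI : IsCyclic (G ⧸ M) := isCyclic_of_prime_card (p := M.index) M.index_eq_card.symm
  have hab : ∀ x y : G ⧸ M, x * y = y * x := fun x y => by
    letI := IsCyclic.commGroup (α := G ⧸ M)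
    exact mul_comm x y
  -- the twists
  let tw : IrrCharacter (G ⧸ M) → IrrCharacter G := fun ω =>
    ⟨fun g => χ g * (ω : G ⧸ M → ℂ) g, by
      obtain ⟨l, hl⟩ := exists_hom_of_degree_one (IsIrrCharacter.isCharacter ω.2)
        (apply_one_eq_one_of_comm hab ω)
      rw [← hl]
      exact IsIrrCharacter.mul_linear hχ (l.comp (QuotientGroup.mk' M))⟩
  have hone : ∀ ω : IrrCharacter (G ⧸ M), (ω : G ⧸ M → ℂ) 1 = 1 :=
    fun ω => apply_one_eq_one_of_comm hab ω
  by_cases hinj : Function.Injective tw
  · -- `q` different twists, each with multiplicity `e`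
    haveI : Fintype (IrrCharacter (G ⧸ M)) := Fintype.ofFinite _
    have hcard : Fintype.card (IrrCharacter (G ⧸ M)) = M.index := by
      rw [← Nat.card_eq_fintype_card, M.index_eq_card, ← Char.card_conjClasses_of_comm hab,
        Char.card_irr_eq_card_conjClasses]
    have hval : ∀ ω, c (tw ω) = e ∧ charDegree (tw ω : G → ℂ) = charDegree χ := by
      intro ω
      refine ⟨?_, ?_⟩
      · have := hfro (tw ω)
        rw [show (fun x : M => (tw ω : G → ℂ) x) = fun x : M => χ x from funext fun x => by
          show χ x * (ω : G ⧸ M → ℂ) ((x : G) : G ⧸ M) = χ x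
          rw [(QuotientGroup.eq_one_iff _).2 x.2, hone, mul_one], hee] at this
        exact_mod_cast this.symm
      · show charDegree (fun g => χ g * (ω : G ⧸ M → ℂ) g) = _
        simp [charDegree, hone]
    have h2 : M.index * (e * charDegree χ) ≤ M.index * charDegree η := by
      calc M.index * (e * charDegree χ)
          = ∑ φ ∈ Finset.univ.map ⟨tw, hinj⟩, c φ * charDegree (φ : G → ℂ) := by
            rw [Finset.sum_map]
            simp only [Function.Embedding.coeFn_mk, fun ω => (hval ω).1, fun ω => (hval ω).2]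
            rw [Finset.sum_const, Finset.card_univ, hcard, smul_eq_mul]
        _ ≤ M.index * charDegree η := hsum ▸ Finset.sum_le_sum_of_subset (Finset.subset_univ _)
    rw [hdeg] at h2
    have h3 := Nat.le_of_mul_le_mul_left h2 hq.pos
    have hη0 : 0 < charDegree η := TwoClassChar.deg_pos hη
    nlinarith [Nat.le_of_mul_le_mul_right ((mul_assoc e e _).trans_le (h3.trans_eq (one_mul _).symm)) hη0]
  · -- `χ` vanishes outside `M`
    exfalso
    simp only [Function.Injective, not_forall] at hinj
    obtain ⟨ω, ω', heq, hne⟩ := hinj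
    have hvan : ∀ g : G, g ∉ M → χ g = 0 := by
      intro g hg
      by_contra hg0
      apply hne
      obtain ⟨l, hl⟩ := exists_hom_of_degree_one (IsIrrCharacter.isCharacter ω.2) (hone ω)
      obtain ⟨l', hl'⟩ := exists_hom_of_degree_one (IsIrrCharacter.isCharacter ω'.2) (hone ω')
      have hg' : l (g : G ⧸ M) = l' (g : G ⧸ M) := by
        have := congrFun (congrArg Subtype.val heq) g
        rw [hl, hl']
        exact mul_left_cancel₀ hg0 this
      refine Subtype.ext (funext fun x => ?_)
      rw [← hl, ← hl']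
      obtain ⟨k, rfl⟩ := Subgroup.mem_zpowers_iff.1 (show x ∈ Subgroup.zpowers (g : G ⧸ M) from
        mem_zpowers_of_prime_card (p := M.index) M.index_eq_card.symm
          (by rwa [Ne, QuotientGroup.eq_one_iff]))
      have e1 : ∀ f : G ⧸ M →* ℂ, f ((g : G ⧸ M) ^ k) = ((f.toHomUnits (g : G ⧸ M)) ^ k : ℂˣ) :=
        fun f => by rw [← map_zpow, MonoidHom.coe_toHomUnits]
      rw [e1, e1, show l.toHomUnits (g : G ⧸ M) = l'.toHomUnits (g : G ⧸ M) from Units.ext hg']
    have hid : classInner (fun x : M => χ x) (fun x : M => χ x) = (M.index : ℂ) := by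
      have h1 := classInner_irr_self hχ
      rw [classInner, inv_mul_eq_iff_eq_mul₀ (Nat.cast_ne_zero.2 Nat.card_pos.ne'), mul_one] at h1
      rw [classInner, inv_mul_eq_iff_eq_mul₀ (Nat.cast_ne_zero.2 Nat.card_pos.ne'), ← Nat.cast_mul,
        M.card_mul_index, ← h1, ← Finset.sum_filter_of_ne (p := fun g : G => g ∈ M) (s := Finset.univ)]
      · exact (Finset.sum_subtype _ (fun x => by simp) (fun g : G => χ g * conj (χ g))).symm
      · intro g _ hg0
        by_contra hgM
        exact hg0 (by rw [hvan g hgM, zero_mul])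
    rw [hself] at hid
    have : e ^ 2 = M.index := by exact_mod_cast hid
    exact hq.prime.not_isSquare ⟨e, by rw [← this, sq]⟩

theorem dvd_mul_index_aux : ∀ (n : ℕ) (G : Type u) [Group G] [Finite G] (N : Subgroup G) [N.Normal]
    [Fintype N], N.index = n → Group.IsSolvable (G ⧸ N) → ∀ (χ : G → ℂ), IsIrrCharacter G χ →
      ∀ (θ : N → ℂ), IsIrrCharacter N θ → classInner (fun x : N => χ x) θ ≠ 0 →
        charDegree χ ∣ charDegree θ * n := by
  intro n
  induction n using Nat.strong_induction_on with
  | _ n ih =>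
    intro G _ _ N _ _ hn hsol χ hχ θ hθ hover
    classical
    haveI := Fintype.ofFinite G
    by_cases hNtop : N = ⊤
    · subst hNtop
      obtain ⟨e, he0, -, hdeg, hself⟩ := degree_over (⊤ : Subgroup G) hχ hθ hover
      have hT : (inertia (⊤ : Subgroup G) θ).index = 1 := Nat.dvd_one.1 (Subgroup.index_top (G := G) ▸
        Subgroup.index_dvd_of_le (le_inertia _ (IsIrrCharacter.isClassFunction hθ)))
      have hb := multiplicity_sq_le_index (⊤ : Subgroup G) hχ
      rw [hself, hT, Nat.cast_one, mul_one, Subgroup.index_top, Nat.cast_one] at hb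
      have he : e ^ 2 ≤ 1 := by
        rw [show ((e : ℂ) ^ 2).re = ((e ^ 2 : ℕ) : ℝ) by norm_cast] at hb
        exact_mod_cast hb
      have he1 : e = 1 := by nlinarith
      rw [hdeg, he1, hT, one_mul, one_mul]
      exact dvd_mul_right _ _
    obtain ⟨M, hMn, hNM, hq⟩ := exists_normal_prime_index_over N hNtop
    haveI := hMn
    obtain ⟨η, hη, hη'⟩ := exists_middle_constituent N hNM (IsIrrCharacter.isCharacter hχ) hover
    have hstep := degree_step M hq hχ η.2 hη
    haveI := Fintype.ofFinite (N.subgroupOf M)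
    let e := Subgroup.subgroupOfEquivOfLe hNM
    have hrel : N.relIndex M * M.index = n := hn ▸ Subgroup.relIndex_mul_index hNM
    haveI : Group.IsSolvable (M ⧸ N.subgroupOf M) := by
      refine Group.isSolvable_of_isSolvable_injective (f := QuotientGroup.map (N.subgroupOf M) N M.subtype
        (fun x hx => hx)) ?_
      rw [injective_iff_map_eq_one]
      intro x hx
      induction x using QuotientGroup.induction_on with
      | H x =>
        exact (QuotientGroup.eq_one_iff x).2 (Subgroup.mem_subgroupOf.2 ((QuotientGroup.eq_one_iff _).1 hx))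
    have hlt : N.relIndex M < n := by
      rw [← hrel]
      exact lt_mul_of_one_lt_right (Nat.pos_of_ne_zero (fun h0 => by
        rw [h0, zero_mul] at hrel
        exact Subgroup.index_ne_zero_of_finite (hn.trans hrel.symm))) hq.one_lt
    have hd := ih _ hlt M (N.subgroupOf M) rfl inferInstance (η : M → ℂ) η.2 (fun x => θ (e x))
      (IsIrrCharacter.comp_equiv hθ e) (by
        have hc := classInner_comp_equiv e (fun x : N => (η : M → ℂ) ⟨(x : G), hNM x.2⟩) θ
        rw [show (fun x : N.subgroupOf M => (η : M → ℂ) (x : M)) =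
          fun x => (fun x : N => (η : M → ℂ) ⟨(x : G), hNM x.2⟩) (e x) from rfl, hc]
        exact hη')
    rw [show charDegree (fun x : N.subgroupOf M => θ (e x)) = charDegree θ by
      simp [charDegree]] at hd
    rw [← hrel, ← mul_assoc]
    exact hstep.trans (mul_dvd_mul_right hd _)

/-- The degree of a character divides the degree of a constituent on a normal subgroup times
its index, if the quotient is solvable. -/
theorem dvd_mul_index (N : Subgroup G) [N.Normal] [Fintype N] [h : Group.IsSolvable (G ⧸ N)]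
    {χ : G → ℂ} (hχ : IsIrrCharacter G χ) {θ : N → ℂ} (hθ : IsIrrCharacter N θ)
    (hover : classInner (fun x : N => χ x) θ ≠ 0) : charDegree χ ∣ charDegree θ * N.index :=
  dvd_mul_index_aux _ G N rfl h χ hχ θ hθ hover

/-- With the index prime to the degree, the restriction is irreducible. -/
theorem restrict_irr_of_coprime (N : Subgroup G) [N.Normal] [Fintype N] [Group.IsSolvable (G ⧸ N)]
    {χ : G → ℂ} (hχ : IsIrrCharacter G χ) (hco : (charDegree χ).Coprime N.index) :
    IsIrrCharacter N (fun x : N => χ x) := by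
  classical
  obtain ⟨θ, hθ⟩ := exists_constituent (IsCharacter.restrict (IsIrrCharacter.isCharacter hχ) N)
    (by rw [OneMemClass.coe_one]; exact IsIrrCharacter.apply_one_ne_zero hχ)
  obtain ⟨e, he0, -, hdeg, hself⟩ := degree_over N hχ θ.2 hθ
  have heq : charDegree χ = charDegree (θ : N → ℂ) :=
    Nat.dvd_antisymm (hco.dvd_of_dvd_mul_right (dvd_mul_index N hχ θ.2 hθ))
      (degree_dvd_of_over N hχ θ.2 hθ)
  have hθ0 : 0 < charDegree (θ : N → ℂ) := TwoClassChar.deg_pos θ.2
  have h1 : e * (inertia N (θ : N → ℂ)).index = 1 := by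
    rw [heq] at hdeg
    exact (Nat.eq_of_mul_eq_mul_right hθ0 ((one_mul _).trans hdeg)).symm
  obtain ⟨he1, ht1⟩ := mul_eq_one.1 h1
  rw [isIrrCharacter_iff_norm_one (IsCharacter.restrict (IsIrrCharacter.isCharacter hχ) N), hself,
    he1, ht1]
  simp

/-- Constituents on a normal subgroup whose order is prime to the index have equal degrees. -/
theorem deg_eq_of_coprime (L : Subgroup G) [L.Normal] [Fintype L] [Group.IsSolvable (G ⧸ L)]
    (hco : (Nat.card L).Coprime L.index) {χ χ' : G → ℂ} (hχ : IsIrrCharacter G χ)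
    (hχ' : IsIrrCharacter G χ') (heq : charDegree χ = charDegree χ') {θ θ' : L → ℂ}
    (hθ : IsIrrCharacter L θ) (hθ' : IsIrrCharacter L θ')
    (h : classInner (fun x : L => χ x) θ ≠ 0) (h' : classInner (fun x : L => χ' x) θ' ≠ 0) :
    charDegree θ = charDegree θ' := by
  have key : ∀ {χ χ' : G → ℂ}, IsIrrCharacter G χ → IsIrrCharacter G χ' →
      charDegree χ = charDegree χ' → ∀ {θ θ' : L → ℂ}, IsIrrCharacter L θ → IsIrrCharacter L θ' →
      classInner (fun x : L => χ x) θ ≠ 0 → classInner (fun x : L => χ' x) θ' ≠ 0 →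
      charDegree θ ∣ charDegree θ' := by
    intro χ χ' hχ hχ' heq θ θ' hθ hθ' h h'
    have h1 := (heq ▸ degree_dvd_of_over L hχ hθ h).trans (dvd_mul_index L hχ' hθ' h')
    refine Nat.Coprime.dvd_of_dvd_mul_right (Nat.Coprime.coprime_dvd_left ?_ hco) h1
    exact Codegree.deg_dvd_card ⟨θ, hθ⟩
  exact Nat.dvd_antisymm (key hχ hχ' heq hθ hθ' h h') (key hχ' hχ heq.symm hθ' hθ h' h)

/-! ### Monomial characters -/

/-- Taketa's step for one monomial character. -/
theorem le_kerSub_of_monomial (D : Subgroup G) [D.Normal] (χ : IrrCharacter G) [Fintype G]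
    {H : Subgroup G} {lam : H →* ℂˣ}
    (hlam : (χ : G → ℂ) = Cfsg.indFun H (fun h => (lam h : ℂ)))
    (hsmall : ∀ φ : IrrCharacter G, charDegree (φ : G → ℂ) < charDegree (χ : G → ℂ) →
      D ≤ kerSub φ) : ⁅D, D⁆ ≤ kerSub χ := by
  classical
  haveI := Fintype.ofFinite H
  haveI := Fintype.ofFinite (IrrCharacter G)
  have hidx : H.index = charDegree (χ : G → ℂ) := by
    have := apply_one χ.2
    rw [congrFun hlam 1, Char.indFun_one_apply, map_one, Units.val_one, mul_one] at this
    exact_mod_cast this
  have hDH : D ≤ H := by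
    by_cases hd : H.index = 1
    · rw [Subgroup.index_eq_one.1 hd]; exact le_top
    obtain ⟨c, hc, hcin⟩ := IsCharacter.decompose (IsCharacter.indFun H (isCharacter_one (G := H)))
    let one : IrrCharacter G := ⟨1, isIrrCharacter_one⟩
    have hc1 : c one = 1 := by
      have := hcin one
      rw [frobenius_reciprocity H _ (IsIrrCharacter.isClassFunction one.2)] at this
      rw [show classInner (1 : H → ℂ) (fun t : H => (one : G → ℂ) t) = 1 from
        classInner_irr_self (isIrrCharacter_one (G := H))] at this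
      exact_mod_cast this.symm
    have hsum : H.index = ∑ φ : IrrCharacter G, c φ * charDegree (φ : G → ℂ) := by
      have := congrFun hc 1
      rw [indFun_one_apply] at this
      simp only [Pi.one_apply, mul_one, Finset.sum_apply, Pi.smul_apply, smul_eq_mul,
        apply_one (Subtype.prop _)] at this
      exact_mod_cast this
    intro x hx
    have hval : indFun H (1 : H → ℂ) x = indFun H (1 : H → ℂ) 1 := by
      rw [hc]
      simp only [Finset.sum_apply, Pi.smul_apply, smul_eq_mul]
      refine Finset.sum_congr rfl fun φ _ => ?_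
      by_cases h0 : c φ = 0
      · simp [h0]
      by_cases hφ : φ = one
      · subst hφ; rfl
      congr 1
      refine mem_kerSub.1 (hsmall φ ?_ hx)
      rw [← hidx, hsum]
      have h2 := Finset.sum_le_sum_of_subset (f := fun ψ => c ψ * charDegree (ψ : G → ℂ))
        (Finset.subset_univ ({one, φ} : Finset (IrrCharacter G)))
      rw [Finset.sum_pair (Ne.symm hφ), hc1, one_mul,
        show charDegree (one : G → ℂ) = 1 by simp [one, charDegree]] at h2
      have := Nat.le_mul_of_pos_left (charDegree (φ : G → ℂ)) (Nat.pos_of_ne_zero h0)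
      omega
    have hπ : ∀ y, indFun H (1 : H → ℂ) y = (Nat.card H : ℂ)⁻¹ *
        ((Finset.univ.filter fun z : G => z⁻¹ * y * z ∈ H).card : ℂ) := by
      intro y
      rw [Cfsg.indFun, ← Finset.sum_boole]
      congr 1
      refine Finset.sum_congr rfl fun z _ => ?_
      rw [Char.extendByZero_eq]
      split_ifs <;> rfl
    rw [hπ, hπ, mul_right_inj' (inv_ne_zero (Nat.cast_ne_zero.mpr Nat.card_pos.ne')),
      Nat.cast_inj] at hval
    have hall : (Finset.univ.filter fun z : G => z⁻¹ * x * z ∈ H) = Finset.univ :=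
      Finset.eq_univ_of_card _ (by rw [hval]; simp)
    simpa using Finset.eq_univ_iff_forall.mp hall 1
  intro x hx
  rw [mem_kerSub, hlam, Cfsg.indFun, Cfsg.indFun]
  congr 1
  refine Finset.sum_congr rfl fun z _ => ?_
  have hz : z⁻¹ * x * z ∈ ⁅D, D⁆ := by
    simpa using (inferInstance : (⁅D, D⁆).Normal).conj_mem x hx z⁻¹
  have hle' : ⁅D, D⁆ ≤ (lam.ker).map H.subtype := by
    rw [Subgroup.commutator_le]
    intro u hu v hv
    refine ⟨⁅(⟨u, hDH hu⟩ : H), ⟨v, hDH hv⟩⁆, ?_, rfl⟩
    rw [SetLike.mem_coe, MonoidHom.mem_ker, map_commutatorElement]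
    exact commutatorElement_eq_one_iff_mul_comm.mpr (mul_comm _ _)
  obtain ⟨w, hw, hwe⟩ := hle' hz
  have hwe' : (w : G) = z⁻¹ * x * z := hwe
  have hone : z⁻¹ * 1 * z = ((1 : H) : G) := by simp
  rw [← hwe', hone, Char.extendByZero_coe, Char.extendByZero_coe, MonoidHom.mem_ker.mp hw, map_one]

end Cfsg.Agent.CharApp.ThreeDegrees
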