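/-
A finite group with at most three degrees of irreducible characters is solvable.

Main results: `exists_deg3`, `isSolvable_of_deg3`.
-/
import Cfsg.Agent.Lib.CharApp.ThreeDegrees.Basic
import Cfsg.Agent.Lib.CentralChar.Fixed
import Cfsg.Agent.Lib.Cores.Fitting
import Cfsg.Agent.S0168

set_option autoImplicit false
set_option linter.style.haveILetI false

namespace Cfsg.Agent.CharApp.ThreeDegrees

open Cfsg Cfsg.Agent.Char Cfsg.Agent.CharApp.DegreeSets
open Cfsg.Agent.Codegree (kerSub mem_kerSub)
open scoped commutatorElement ComplexConjugate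

universe u

variable {G : Type u} [Group G] [Finite G]

theorem Deg3.symm {a b : ℕ} (h : Deg3 G a b) : Deg3 G b a := fun χ => by
  rcases h χ with h1 | h1 | h1
  · exact Or.inl h1
  · exact Or.inr (Or.inr h1)
  · exact Or.inr (Or.inl h1)

/-- A normal subgroup with order prime to its index has at most three degrees as well. -/
theorem exists_deg3 (L : Subgroup G) [L.Normal] [Fintype L] [Group.IsSolvable (G ⧸ L)]
    (hco : (Nat.card L).Coprime L.index) {a b : ℕ} (h : Deg3 G a b) :
    ∃ a' b', Deg3 L a' b' ∧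
      ∀ (χ : IrrCharacter G) (θ : IrrCharacter L),
        classInner (fun x : L => (χ : G → ℂ) x) (θ : L → ℂ) ≠ 0 →
          (charDegree (χ : G → ℂ) = a → charDegree (θ : L → ℂ) = a') ∧
          (charDegree (χ : G → ℂ) = b → charDegree (θ : L → ℂ) = b') := by
  classical
  have hch : ∀ d : ℕ, ∃ d' : ℕ, ∀ (χ : IrrCharacter G) (θ : IrrCharacter L),
      classInner (fun x : L => (χ : G → ℂ) x) (θ : L → ℂ) ≠ 0 →
        charDegree (χ : G → ℂ) = d → charDegree (θ : L → ℂ) = d' := by
    intro d
    by_cases he : ∃ (χ : IrrCharacter G) (θ : IrrCharacter L),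
        classInner (fun x : L => (χ : G → ℂ) x) (θ : L → ℂ) ≠ 0 ∧ charDegree (χ : G → ℂ) = d
    · obtain ⟨χ₀, θ₀, h₀, hd₀⟩ := he
      exact ⟨charDegree (θ₀ : L → ℂ), fun χ θ hθ hd =>
        deg_eq_of_coprime L hco χ.2 χ₀.2 (hd.trans hd₀.symm) θ.2 θ₀.2 hθ h₀⟩
    · exact ⟨1, fun χ θ hθ hd => absurd ⟨χ, θ, hθ, hd⟩ he⟩
  obtain ⟨a', ha'⟩ := hch a
  obtain ⟨b', hb'⟩ := hch b
  refine ⟨a', b', fun θ => ?_, fun χ θ hθ => ⟨ha' χ θ hθ, hb' χ θ hθ⟩⟩
  haveI := Fintype.ofFinite G
  obtain ⟨χ, hχ, hover⟩ := exists_over L θ.2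
  rcases h ⟨χ, hχ⟩ with h1 | h1 | h1
  · exact Or.inl (Nat.dvd_one.1 (h1 ▸ degree_dvd_of_over L hχ θ.2 hover))
  · exact Or.inr (Or.inl (ha' ⟨χ, hχ⟩ θ hover h1))
  · exact Or.inr (Or.inr (hb' ⟨χ, hχ⟩ θ hover h1))

section products

variable [Fintype G] {a b : ℕ}

omit [Finite G] in
theorem classInner_mul_shift (χ φ ψ : G → ℂ) :
    classInner (fun g => χ g * φ g) ψ = classInner χ (fun g => ψ g * conj (φ g)) := by
  simp only [classInner, map_mul, Complex.conj_conj]
  congr 1
  exact Finset.sum_congr rfl fun g _ => by ring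

theorem deg_conj {χ : G → ℂ} (hχ : IsIrrCharacter G χ) :
    charDegree (fun g => conj (χ g)) = charDegree χ := by
  simp [charDegree]

theorem deg_mul {χ φ : G → ℂ} (hχ : IsIrrCharacter G χ) (hφ : IsIrrCharacter G φ) :
    (fun g => χ g * φ g) 1 = ((charDegree χ * charDegree φ : ℕ) : ℂ) := by
  push_cast
  rw [← apply_one hχ, ← apply_one hφ]

theorem split_sum [Fintype (IrrCharacter G)] (h : Deg3 G a b) (hab : a ≠ b) (c : IrrCharacter G → ℕ)
    (hlin : ∀ φ : IrrCharacter G, charDegree (φ : G → ℂ) = 1 → c φ = 0) :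
    ∑ φ : IrrCharacter G, c φ * charDegree (φ : G → ℂ) =
      a * (∑ φ : IrrCharacter G, if charDegree (φ : G → ℂ) = a then c φ else 0) +
      b * (∑ φ : IrrCharacter G, if charDegree (φ : G → ℂ) = b then c φ else 0) := by
  rw [Finset.mul_sum, Finset.mul_sum, ← Finset.sum_add_distrib]
  refine Finset.sum_congr rfl fun φ _ => ?_
  rcases h φ with h1 | h1 | h1
  · simp [hlin φ h1]
  · rw [if_pos h1, if_neg (fun e => hab (h1.symm.trans e)), h1, mul_zero, add_zero, mul_comm]
  · rw [if_neg (fun e => hab (e.symm.trans h1)), if_pos h1, h1, mul_zero, zero_add, mul_comm]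

/-- If a product of two characters of degree `a` has a constituent of degree `b`, they are conjugate
up to a linear twist. -/
theorem eq_conj_on_commutator (h : Deg3 G a b) (hab : a < b) (hco : a.Coprime b)
    (φ φ' β : IrrCharacter G) (hφ : charDegree (φ : G → ℂ) = a) (hφ' : charDegree (φ' : G → ℂ) = a)
    (hβ : charDegree (β : G → ℂ) = b)
    (hin : classInner (fun g => (φ : G → ℂ) g * (φ' : G → ℂ) g) (β : G → ℂ) ≠ 0) :
    ∀ x ∈ commutator G, (φ : G → ℂ) x = conj ((φ' : G → ℂ) x) := by
  classical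
  haveI := Fintype.ofFinite (IrrCharacter G)
  obtain ⟨c, hc, hcin⟩ := IsCharacter.decompose
    (χ := fun g => (φ : G → ℂ) g * (φ' : G → ℂ) g)
    (IsCharacter.mul (IsIrrCharacter.isCharacter φ.2) (IsIrrCharacter.isCharacter φ'.2))
  have ha0 : 0 < a := hφ ▸ TwoClassChar.deg_pos φ.2
  have hsum : a * a = ∑ ψ : IrrCharacter G, c ψ * charDegree (ψ : G → ℂ) := by
    have h1 := congrFun hc 1
    rw [show (φ : G → ℂ) 1 * (φ' : G → ℂ) 1 = _ from deg_mul φ.2 φ'.2, hφ, hφ'] at h1
    simp only [Finset.sum_apply, Pi.smul_apply, smul_eq_mul, apply_one (Subtype.prop _)] at h1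
    exact_mod_cast h1
  obtain ⟨lam, hlam, hclam⟩ : ∃ lam : IrrCharacter G, charDegree (lam : G → ℂ) = 1 ∧ c lam ≠ 0 := by
    by_contra hno
    push Not at hno
    rw [split_sum h hab.ne c hno] at hsum
    set M := ∑ ψ : IrrCharacter G, if charDegree (ψ : G → ℂ) = a then c ψ else 0
    set L := ∑ ψ : IrrCharacter G, if charDegree (ψ : G → ℂ) = b then c ψ else 0 with hL
    have hcβ : 0 < c β := Nat.pos_of_ne_zero fun e => hin (by rw [hcin β, e, Nat.cast_zero])
    have hL0 : 0 < L := by
      refine lt_of_lt_of_le hcβ ?_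
      rw [hL]
      refine le_trans ?_ (Finset.single_le_sum
        (f := fun ψ : IrrCharacter G => if charDegree (ψ : G → ℂ) = b then c ψ else 0)
        (fun _ _ => Nat.zero_le _) (Finset.mem_univ β))
      simp [hβ]
    have hdvd : a ∣ b * L := (Nat.dvd_add_right (dvd_mul_right a M)).1 (hsum ▸ dvd_mul_right a a)
    have haL := Nat.le_of_dvd hL0 (hco.dvd_of_dvd_mul_left hdvd)
    nlinarith
  obtain ⟨l, hl⟩ := exists_hom_of_degree_one (IsIrrCharacter.isCharacter lam.2)
    (by rw [apply_one lam.2, hlam, Nat.cast_one])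
  have htw : IsIrrCharacter G (fun g => (lam : G → ℂ) g * conj ((φ' : G → ℂ) g)) := by
    have := IsIrrCharacter.mul_linear (IsIrrCharacter.conj φ'.2) l
    convert this using 1
    funext g
    rw [mul_comm, ← congrFun hl g]
  have heq : (φ : G → ℂ) = fun g => (lam : G → ℂ) g * conj ((φ' : G → ℂ) g) := by
    by_contra hne
    refine hclam ?_
    have h2 := hcin lam
    rw [classInner_mul_shift, classInner_irr_of_ne φ.2 htw hne] at h2
    exact_mod_cast h2.symm
  intro x hx
  rw [congrFun heq x, apply_commutator_of_linear lam.2 hlam hx, apply_one lam.2, hlam, Nat.cast_one,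
    one_mul]

/-- The product of two characters of degree `a` has no constituent of degree `b`. -/
theorem inner_mul_eq_zero (h : Deg3 G a b) (ha : 1 < a) (hab : a < b) (hco : a.Coprime b)
    (hG : commutator G ≠ ⊥) (χ χ' β : IrrCharacter G) (hχ : charDegree (χ : G → ℂ) = a)
    (hχ' : charDegree (χ' : G → ℂ) = a) (hβ : charDegree (β : G → ℂ) = b) (hfaith : kerSub β = ⊥) :
    classInner (fun g => (χ' : G → ℂ) g * (χ : G → ℂ) g) (β : G → ℂ) = 0 := by
  classical
  by_contra hin
  haveI := Fintype.ofFinite (IrrCharacter G)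
  haveI := Fintype.ofFinite (commutator G)
  obtain ⟨c, hc, hcin⟩ := IsCharacter.decompose
    (χ := fun g => (χ : G → ℂ) g * conj ((β : G → ℂ) g))
    (IsCharacter.mul (IsIrrCharacter.isCharacter χ.2)
      (IsCharacter.conj (IsIrrCharacter.isCharacter β.2)))
  have hsum : a * b = ∑ ψ : IrrCharacter G, c ψ * charDegree (ψ : G → ℂ) := by
    have h1 := congrFun hc 1
    rw [IsCharacter.conj_apply_one (IsIrrCharacter.isCharacter β.2),
      show (χ : G → ℂ) 1 * (β : G → ℂ) 1 = _ from deg_mul χ.2 β.2, hχ, hβ] at h1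
    simp only [Finset.sum_apply, Pi.smul_apply, smul_eq_mul, apply_one (Subtype.prop _)] at h1
    exact_mod_cast h1
  have hlin : ∀ φ : IrrCharacter G, charDegree (φ : G → ℂ) = 1 → c φ = 0 := by
    intro φ hφ
    obtain ⟨l, hl⟩ := exists_hom_of_degree_one (IsIrrCharacter.isCharacter φ.2)
      (by rw [apply_one φ.2, hφ, Nat.cast_one])
    have htw : IsIrrCharacter G (fun g => (φ : G → ℂ) g * (β : G → ℂ) g) := by
      have := IsIrrCharacter.mul_linear β.2 l
      convert this using 1
      funext g
      rw [mul_comm, ← congrFun hl g]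
    have h1 := hcin φ
    rw [classInner_mul_shift] at h1
    simp only [Complex.conj_conj] at h1
    rw [classInner_irr_of_ne χ.2 htw (fun e => ?_)] at h1
    · exact_mod_cast h1.symm
    · have h2 := congrFun e 1
      simp only [apply_one (Subtype.prop _), hχ, hβ, hφ, Nat.cast_one, one_mul, Nat.cast_inj] at h2
      exact hab.ne h2
  -- every constituent has degree `a`
  have hall : ∀ φ : IrrCharacter G, c φ ≠ 0 → charDegree (φ : G → ℂ) = a := by
    rw [split_sum h hab.ne c hlin] at hsum
    set M := ∑ ψ : IrrCharacter G, if charDegree (ψ : G → ℂ) = a then c ψ else 0 with hM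
    set L := ∑ ψ : IrrCharacter G, if charDegree (ψ : G → ℂ) = b then c ψ else 0 with hL
    let χc : IrrCharacter G := ⟨fun g => conj ((χ' : G → ℂ) g), IsIrrCharacter.conj χ'.2⟩
    have hcc : 0 < c χc := by
      refine Nat.pos_of_ne_zero fun e => hin ?_
      have h1 := hcin χc
      rw [e, Nat.cast_zero] at h1
      rw [← h1, classInner, classInner]
      congr 1
      exact Finset.sum_congr rfl fun g _ => by simp only [χc, Complex.conj_conj]; ring
    have hM0 : 0 < M := by
      refine lt_of_lt_of_le hcc ?_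
      rw [hM]
      refine le_trans ?_ (Finset.single_le_sum
        (f := fun ψ : IrrCharacter G => if charDegree (ψ : G → ℂ) = a then c ψ else 0)
        (fun _ _ => Nat.zero_le _) (Finset.mem_univ χc))
      simp [show charDegree (χc : G → ℂ) = a from (deg_conj χ'.2).trans hχ']
    have hdvd : a ∣ b * L := (Nat.dvd_add_right (dvd_mul_right a M)).1 (hsum ▸ dvd_mul_right a b)
    have hL0 : L = 0 := by
      rcases Nat.eq_zero_or_pos L with h0 | h0
      · exact h0
      · have := Nat.le_of_dvd h0 (hco.dvd_of_dvd_mul_left hdvd)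
        nlinarith
    intro φ hφ
    rcases h φ with h1 | h1 | h1
    · exact absurd (hlin φ h1) hφ
    · exact h1
    · refine absurd ?_ hφ
      have h2 := (Finset.sum_eq_zero_iff.1 (hL ▸ hL0)) φ (Finset.mem_univ _)
      rwa [if_pos h1] at h2
  have hagree : ∀ φ : IrrCharacter G, c φ ≠ 0 → ∀ x ∈ commutator G,
      (φ : G → ℂ) x = (χ : G → ℂ) x := by
    intro φ hφ x hx
    let φc : IrrCharacter G := ⟨fun g => conj ((φ : G → ℂ) g), IsIrrCharacter.conj φ.2⟩
    have h1 := eq_conj_on_commutator h hab hco χ φc β hχ ((deg_conj φ.2).trans (hall φ hφ)) hβ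
      (fun h0 => hφ (by
        have h2 := hcin φ
        rw [show classInner (fun g => (χ : G → ℂ) g * conj ((β : G → ℂ) g)) (φ : G → ℂ) =
          classInner (fun g => (χ : G → ℂ) g * (φc : G → ℂ) g) (β : G → ℂ) by
            rw [classInner, classInner]
            congr 1
            exact Finset.sum_congr rfl fun g _ => by simp only [φc]; ring, h0] at h2
        exact_mod_cast h2.symm)) x hx
    simpa [φc] using h1.symm
  have hc1 : ∑ φ : IrrCharacter G, c φ = b := by
    refine Nat.eq_of_mul_eq_mul_right (show 0 < a by omega) ?_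
    rw [mul_comm b a, hsum, Finset.sum_mul]
    refine Finset.sum_congr rfl fun φ _ => ?_
    by_cases h0 : c φ = 0
    · simp [h0]
    · rw [hall φ h0]
  have hvan : ∀ x ∈ commutator G, x ≠ 1 → (χ : G → ℂ) x = 0 := by
    intro x hx hx1
    by_contra h0
    refine hx1 ((Subgroup.eq_bot_iff_forall _).1 hfaith x ?_)
    have h1 := congrFun hc x
    simp only [Finset.sum_apply, Pi.smul_apply, smul_eq_mul] at h1
    rw [Finset.sum_congr rfl (fun φ _ => show (c φ : ℂ) * (φ : G → ℂ) x = (c φ : ℂ) * (χ : G → ℂ) x by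
      by_cases hc0 : c φ = 0
      · simp [hc0]
      · rw [hagree φ hc0 x hx]), ← Finset.sum_mul, ← Nat.cast_sum, hc1, mul_comm] at h1
    have h2 := congrArg conj (mul_right_cancel₀ h0 h1)
    rw [Complex.conj_conj, Complex.conj_natCast, ← hβ, ← apply_one β.2] at h2
    exact mem_kerSub.2 h2
  -- so `χ` has trivial constituent on the derived subgroup
  have htriv : TrivOn (commutator G) (χ : G → ℂ) := by
    refine trivOn_of_constituent_one _ χ.2 ?_
    rw [classInner, Finset.sum_eq_single (1 : commutator G) (fun y _ hy => by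
      rw [hvan y y.2 (fun e => hy (Subtype.ext e)), zero_mul]) (fun hn => absurd (Finset.mem_univ _) hn)]
    simp [apply_one χ.2, Nat.card_pos.ne', hχ, (show a ≠ 0 by omega)]
  obtain ⟨⟨x, hx⟩, hx1⟩ := (commutator G).ne_bot_iff_exists_ne_one.1 hG
  exact IsIrrCharacter.apply_one_ne_zero χ.2
    ((htriv ⟨x, hx⟩).symm.trans (hvan x hx fun e => hx1 (Subtype.ext e)))

/-- A character of degree `a` is not faithful. -/
theorem kerSub_ne_bot (h : Deg3 G a b) (ha : 1 < a) (hab : a < b) (hco : a.Coprime b)
    (hG : commutator G ≠ ⊥) (χ β : IrrCharacter G) (hχ : charDegree (χ : G → ℂ) = a)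
    (hβ : charDegree (β : G → ℂ) = b) (hfaith : ∀ β' : IrrCharacter G,
      charDegree (β' : G → ℂ) = b → kerSub β' = ⊥) : kerSub χ ≠ ⊥ := by
  classical
  intro hbot
  haveI := Fintype.ofFinite (IrrCharacter G)
  obtain ⟨n, ρ, hρ, hρχ⟩ := χ.2
  have hinj : Function.Injective ρ := by
    rw [injective_iff_map_eq_one]
    intro g hg
    refine (Subgroup.eq_bot_iff_forall _).1 hbot g (mem_kerSub.2 ?_)
    rw [← hρχ, Representation.character, Representation.character, hg, map_one ρ]
  have key : ∀ (i : ℕ) (β' : IrrCharacter G), charDegree (β' : G → ℂ) = b →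
      classInner (fun g => (χ : G → ℂ) g ^ i) (β' : G → ℂ) = 0 := by
    intro i
    induction i with
    | zero =>
      intro β' hβ'
      rw [show (fun g => (χ : G → ℂ) g ^ 0) = (1 : G → ℂ) from funext fun g => pow_zero _]
      refine classInner_irr_of_ne isIrrCharacter_one β'.2 fun e => ?_
      have := congrFun e 1
      rw [Pi.one_apply, apply_one β'.2, hβ'] at this
      norm_cast at this
      omega
    | succ i ih =>
      intro β' hβ'
      obtain ⟨c, hc, hcin⟩ := IsCharacter.decompose
        (IsCharacter.pow (IsIrrCharacter.isCharacter χ.2) i)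
      have hfun : (fun g => (χ : G → ℂ) g ^ (i + 1)) =
          ∑ φ : IrrCharacter G, (c φ : ℂ) • fun g => (φ : G → ℂ) g * (χ : G → ℂ) g := by
        funext g
        rw [pow_succ, show (χ : G → ℂ) g ^ i = ((χ : G → ℂ) ^ i) g from rfl, hc]
        simp [Finset.sum_mul, mul_assoc]
      rw [hfun, classInner_sum_left]
      refine Finset.sum_eq_zero fun φ _ => ?_
      rw [classInner_smul_left]
      rcases h φ with h1 | h1 | h1
      · obtain ⟨l, hl⟩ := exists_hom_of_degree_one (IsIrrCharacter.isCharacter φ.2)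
          (by rw [apply_one φ.2, h1, Nat.cast_one])
        have htw : IsIrrCharacter G (fun g => (φ : G → ℂ) g * (χ : G → ℂ) g) := by
          have := IsIrrCharacter.mul_linear χ.2 l
          convert this using 1
          funext g
          rw [mul_comm, ← congrFun hl g]
        rw [classInner_irr_of_ne htw β'.2 (fun e => ?_), mul_zero]
        have h2 := congrFun e 1
        simp only [apply_one (Subtype.prop _), hχ, hβ', h1, Nat.cast_one, one_mul, Nat.cast_inj] at h2
        exact hab.ne h2
      · rw [inner_mul_eq_zero h ha hab hco hG χ φ β' hχ h1 hβ' (hfaith β' hβ'), mul_zero]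
      · rw [show (c φ : ℂ) = 0 from (hcin φ).symm.trans (ih φ h1), zero_mul]
  obtain ⟨i, -, hi⟩ := S0168.result ρ hinj (β : G → ℂ) β.2
  exact hi (by rw [hρχ]; exact key i β hβ)

end products

/-- A perfect subgroup lies in every normal subgroup with solvable quotient. -/
theorem le_of_perfect (N K : Subgroup G) [K.Normal] [h : Group.IsSolvable (G ⧸ K)]
    (hN : ⁅N, N⁆ = N) : N ≤ K := by
  obtain ⟨j, hj⟩ := h.solvable
  have hle : ∀ i, N ≤ derivedSeries G i := fun i => by
    induction i with
    | zero => exact le_top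
    | succ i ih => exact hN.ge.trans (Subgroup.commutator_mono ih ih)
  exact (hle j).trans (derived_le_of_quotient K j hj)

theorem isSolvable_aux : ∀ (n : ℕ) (G : Type u) [Group G] [Finite G], Nat.card G = n →
    ∀ a b : ℕ, Deg3 G a b → Group.IsSolvable G := by
  intro n
  induction n using Nat.strong_induction_on with
  | _ n ih =>
    intro G _ _ hn a₀ b₀ hdeg₀
    classical
    by_contra hsol
    haveI := Fintype.ofFinite G
    have hquot : ∀ (M : Subgroup G) [M.Normal], M ≠ ⊥ → Group.IsSolvable (G ⧸ M) := by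
      intro M _ hM
      refine ih _ ?_ (G ⧸ M) rfl a₀ b₀ (hdeg₀.quotient M)
      rw [← M.index_eq_card, ← hn, ← M.card_mul_index]
      exact lt_mul_of_one_lt_left (Nat.pos_of_ne_zero Subgroup.index_ne_zero_of_finite)
        (M.one_lt_card_iff_ne_bot.2 hM)
    have hns : ∀ (M : Subgroup G) [M.Normal], Group.IsSolvable M → M = ⊥ := by
      intro M _ hM
      by_contra hb
      haveI := hquot M hb
      exact hsol (Group.isSolvable_of_ker_le_range M.subtype (QuotientGroup.mk' M)
        (by rw [QuotientGroup.ker_mk', Subgroup.range_subtype]))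
    -- the unique minimal normal subgroup
    have hinter : ∀ (M M' : Subgroup G) [M.Normal] [M'.Normal], M ≠ ⊥ → M' ≠ ⊥ → M ⊓ M' ≠ ⊥ := by
      intro M M' _ _ hM hM' hb
      haveI := hquot M hM
      haveI := hquot M' hM'
      obtain ⟨i, hi⟩ := (hquot M hM).solvable
      obtain ⟨j, hj⟩ := (hquot M' hM').solvable
      refine hsol ⟨⟨max i j, le_bot_iff.1 (hb ▸ le_inf ?_ ?_)⟩⟩
      · exact (derivedSeries_antitone G (le_max_left i j)).trans (derived_le_of_quotient M i hi)
      · exact (derivedSeries_antitone G (le_max_right i j)).trans (derived_le_of_quotient M' j hj)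
    haveI : Nontrivial G := not_subsingleton_iff_nontrivial.1 fun _ => hsol inferInstance
    obtain ⟨N, ⟨hNn, hNb⟩, hmin⟩ := Set.Finite.exists_minimal
      (Set.toFinite {M : Subgroup G | M.Normal ∧ M ≠ ⊥}) ⟨⊤, inferInstance, top_ne_bot⟩
    haveI := hNn
    have hNle : ∀ (M : Subgroup G) [M.Normal], M ≠ ⊥ → N ≤ M := fun M _ hM =>
      (hmin ⟨inferInstance, hinter N M hNb hM⟩ inf_le_left).trans inf_le_right
    have hperf : ⁅N, N⁆ = N := by
      refine le_antisymm (Subgroup.commutator_le_self N) (hNle _ fun hb => hNb (hns N ?_))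
      exact Group.isSolvable_of_comm fun x y => Subtype.ext
        (Subgroup.commutator_eq_bot_iff_le_centralizer.1 hb y.2 x x.2)
    have hNG : N ≤ commutator G := hperf.ge.trans (Subgroup.commutator_mono le_top le_top)
    have hnl : ∃ χ : IrrCharacter G, charDegree (χ : G → ℂ) ≠ 1 := by
      by_contra hh
      push Not at hh
      exact hsol (Group.isSolvable_of_comm (comm_of_forall_degree_one fun χ => by
        rw [apply_one χ.2, hh χ, Nat.cast_one]))
    -- no prime divides all nonlinear degrees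
    have hprime : ∀ p : ℕ, p.Prime →
        ¬ ∀ χ : IrrCharacter G, charDegree (χ : G → ℂ) ≠ 1 → p ∣ charDegree (χ : G → ℂ) := by
      intro p hp hall
      haveI := Fact.mk hp
      obtain ⟨L, hL, hLco, k, hk⟩ := exists_normal_pComplement p hall
      haveI := hL
      haveI := Fintype.ofFinite L
      by_cases hLtop : L = ⊤
      · obtain ⟨χ, hχ⟩ := hnl
        refine hp.ne_one (Nat.eq_one_of_dvd_coprimes hLco ?_ dvd_rfl)
        rw [hLtop, Subgroup.card_top]
        exact (hall χ hχ).trans (Codegree.deg_dvd_card χ)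
      haveI : Group.IsSolvable (G ⧸ L) := by
        haveI := (IsPGroup.of_card (p := p) (G := G ⧸ L) (n := k)
          (by rw [← L.index_eq_card, hk])).isNilpotent
        infer_instance
      obtain ⟨a', b', hd', -⟩ := exists_deg3 L (hk ▸ hLco.pow_right k) hdeg₀
      have hlt : Nat.card L < n := hn ▸ lt_of_le_of_ne (Subgroup.card_le_card_group L)
        (fun e => hLtop (Subgroup.eq_top_of_card_eq L e))
      haveI := ih _ hlt L rfl a' b' hd'
      exact hsol (Group.isSolvable_of_ker_le_range L.subtype (QuotientGroup.mk' L)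
        (by rw [QuotientGroup.ker_mk', Subgroup.range_subtype]))
    -- both degrees occur, are coprime and different from 1
    have hatt : ∀ x y : ℕ, Deg3 G x y →
        x ≠ 1 ∧ ∃ χ : IrrCharacter G, charDegree (χ : G → ℂ) = x := by
      intro x y hd
      obtain ⟨χ₀, hχ₀⟩ := hnl
      by_contra hh
      have honly : ∀ χ : IrrCharacter G, charDegree (χ : G → ℂ) ≠ 1 →
          charDegree (χ : G → ℂ) = y := by
        intro χ hχ
        refine ((hd χ).resolve_left hχ).resolve_left fun e => hh ⟨fun e' => hχ (e.trans e'), χ, e⟩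
      have hy : y ≠ 1 := fun e => hχ₀ ((honly χ₀ hχ₀).trans e)
      obtain ⟨p, hp, hpy⟩ := Nat.exists_prime_and_dvd hy
      exact hprime p hp fun χ hχ => (honly χ hχ).symm ▸ hpy
    have hcop : a₀.Coprime b₀ := by
      refine Nat.coprime_of_dvd fun p hp hpa hpb => hprime p hp fun χ hχ => ?_
      rcases (hdeg₀ χ).resolve_left hχ with h1 | h1 <;> rw [h1] <;> assumption
    obtain ⟨a, b, hdeg, hco, hab⟩ : ∃ a b, Deg3 G a b ∧ a.Coprime b ∧ a < b := by
      rcases lt_trichotomy a₀ b₀ with hlt | heq | hlt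
      · exact ⟨a₀, b₀, hdeg₀, hcop, hlt⟩
      · exact absurd ((Nat.coprime_self _).1 (heq ▸ hcop)) (hatt _ _ hdeg₀.symm).1
      · exact ⟨b₀, a₀, hdeg₀.symm, hcop.symm, hlt⟩
    obtain ⟨ha1, χa, hχa⟩ := hatt a b hdeg
    obtain ⟨-, χb, hχb⟩ := hatt b a hdeg.symm
    have ha : 1 < a := by
      have := hχa ▸ TwoClassChar.deg_pos χa.2
      omega
    have hG' : commutator G ≠ ⊥ := fun e => hNb (le_bot_iff.1 (e ▸ hNG))
    have hfaith : ∀ β : IrrCharacter G, charDegree (β : G → ℂ) = b → kerSub β = ⊥ := by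
      intro β hβ
      by_contra hb
      have hle := hNle (kerSub β) hb
      obtain ⟨ξ, hξ, -⟩ := Broline.broline β (Or.inl fun hfit => hNb (hns N
        (Group.isSolvable_of_isSolvable_injective
          (f := Subgroup.inclusion (hle.trans hfit)) (Subgroup.inclusion_injective _))))
      rw [hβ] at hξ
      rcases hdeg ξ with h1 | h1 | h1 <;> omega
    have hkill : ∀ χ : IrrCharacter G, charDegree (χ : G → ℂ) ≠ b → N ≤ kerSub χ := by
      intro χ hχ
      rcases hdeg χ with h1 | h1 | h1
      · exact hNG.trans (commutator_le_kerSub h1)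
      · exact hNle _ (kerSub_ne_bot hdeg ha hab hco hG' χ χb h1 hχb hfaith)
      · exact absurd h1 hχ
    haveI := Fintype.ofFinite N
    obtain ⟨θ, hθ⟩ : ∃ θ : IrrCharacter N, charDegree (θ : N → ℂ) ≠ 1 := by
      by_contra hh
      push Not at hh
      exact hNb (hns N (Group.isSolvable_of_comm (comm_of_forall_degree_one fun θ => by
        rw [apply_one θ.2, hh θ, Nat.cast_one])))
    obtain ⟨χ, hχ, hover⟩ := exists_over N θ.2
    have hχdeg : charDegree χ = b := by
      by_contra hne
      have hk := hkill ⟨χ, hχ⟩ hne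
      refine hθ ?_
      have hth : (θ : N → ℂ) = 1 := by
        by_contra hne1
        refine hover ?_
        rw [show (fun x : N => χ x) = χ 1 • (1 : N → ℂ) from funext fun x => by
          simpa using mem_kerSub.1 (hk x.2), classInner_smul_left,
          classInner_irr_of_ne isIrrCharacter_one θ.2 (Ne.symm hne1), mul_zero]
      simp [hth, charDegree]
    obtain ⟨r, hr, hrθ⟩ := Nat.exists_prime_and_dvd hθ
    haveI := Fact.mk hr
    have hrb : r ∣ b := hχdeg ▸ hrθ.trans (degree_dvd_of_over N hχ θ.2 hover)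
    have hrN : r ∣ Nat.card N := hrθ.trans (Codegree.deg_dvd_card θ)
    obtain ⟨P⟩ := (inferInstance : Nonempty (Sylow r G))
    have hPN : ∀ x ∈ (P : Subgroup G), x ∈ N → x ∈ ⁅(P : Subgroup G), (P : Subgroup G)⁆ :=
      fun x hxP hxN => CentralChar.mem_commutator_of_ker _ (Sylow.not_dvd_index P) hxP
        fun φ hφ => mem_kerSub.1 (hkill φ (fun e => hφ (e ▸ hrb)) hxN)
    set H := N ⊔ (P : Subgroup G) with hH
    have hHH : ⁅H, H⁆ ≤ ⁅(P : Subgroup G), (P : Subgroup G)⁆ ⊔ N := by
      refine le_trans ?_ (le_of_eq ((Subgroup.comap_map_eq (QuotientGroup.mk' N) _).trans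
        (by rw [QuotientGroup.ker_mk'])))
      rw [← Subgroup.map_le_iff_le_comap, Subgroup.map_commutator, Subgroup.map_commutator, hH,
        Subgroup.map_sup, (Subgroup.map_eq_bot_iff N).2 (QuotientGroup.ker_mk' N).ge, bot_sup_eq]
    have hcompl : HasNormalPComplement r H := by
      refine Transfer.hasNormalPComplement_of_commutator_inf_le (P.subtype le_sup_right) fun x hx => ?_
      have hxH : (x : G) ∈ ⁅H, H⁆ := Subgroup.map_subtype_commutator H ▸ ⟨x, hx.1, rfl⟩
      have hxP : (x : G) ∈ (P : Subgroup G) := hx.2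
      obtain ⟨y, hy, z, hz, hyz⟩ := Subgroup.mem_sup_of_normal_right.1 (hHH hxH)
      have hle : ⁅(P : Subgroup G), (P : Subgroup G)⁆ ≤ (P : Subgroup G) :=
        Subgroup.commutator_le_self _
      have hzP : z ∈ (P : Subgroup G) := by
        have h1 := mul_mem (inv_mem (hle hy)) hxP
        rwa [← hyz, inv_mul_cancel_left] at h1
      have hxc : (x : G) ∈ ⁅(P : Subgroup G), (P : Subgroup G)⁆ :=
        hyz ▸ mul_mem hy (hPN z hzP hz)
      rw [← Subgroup.mem_map_iff_mem H.subtype_injective, Subgroup.map_commutator]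
      rw [show (((P.subtype le_sup_right : Sylow r H) : Subgroup H).map H.subtype) =
        (P : Subgroup G) from Subgroup.map_subgroupOf_eq_of_le le_sup_right]
      exact hxc
    obtain ⟨Q, K, hK, hKc⟩ := hcompl
    haveI := hK
    have hidx : K.index = Nat.card Q := hKc.symm.index_eq_card
    haveI : Group.IsSolvable (H ⧸ K) := by
      obtain ⟨k, hk⟩ := Q.2.exists_card_eq
      haveI := (IsPGroup.of_card (p := r) (G := H ⧸ K) (n := k)
        (by rw [← K.index_eq_card, hidx, hk])).isNilpotent
      infer_instance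
    have hNK : N.subgroupOf H ≤ K := by
      refine le_of_perfect _ K (Subgroup.map_injective H.subtype_injective ?_)
      rw [Subgroup.map_commutator, Subgroup.map_subgroupOf_eq_of_le le_sup_left, hperf]
    have hrK : r ∣ Nat.card K := by
      refine hrN.trans ?_
      rw [← Nat.card_congr (Subgroup.subgroupOfEquivOfLe (le_sup_left : N ≤ H)).toEquiv]
      exact Subgroup.card_dvd_of_le hNK
    exact Q.not_dvd_index (hKc.index_eq_card.symm ▸ hrK)

/-- A group with at most three character degrees is solvable. -/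
theorem isSolvable_of_deg3 {a b : ℕ} (h : Deg3 G a b) : Group.IsSolvable G :=
  isSolvable_aux _ G rfl a b h

end Cfsg.Agent.CharApp.ThreeDegrees
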