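/-
A finite group with three character degrees has derived length at most three.

Main results: `exists_monomial`, `derivedSeries_three`.
-/
import Cfsg.Agent.Lib.CharApp.ThreeDegrees.Section

set_option autoImplicit false
set_option linter.style.haveILetI false

namespace Cfsg.Agent.CharApp.ThreeDegrees

open Cfsg Cfsg.Agent.Char Cfsg.Agent.CharApp.DegreeSets Cfsg.Agent.CharApp.TwoDegrees
open Cfsg.Agent.Codegree (kerSub mem_kerSub inflate)
open scoped commutatorElement ComplexConjugate

universe u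

/-! ### Monomial characters -/

theorem card_comap_mk' {G : Type*} [Group G] [Finite G] (K : Subgroup G) [K.Normal]
    (H : Subgroup (G ⧸ K)) :
    Nat.card (H.comap (QuotientGroup.mk' K)) = Nat.card H * Nat.card K := by
  have h1 : (H.comap (QuotientGroup.mk' K)).index = H.index :=
    Subgroup.index_comap_of_surjective H (QuotientGroup.mk'_surjective K)
  refine Nat.eq_of_mul_eq_mul_right
    (Nat.pos_of_ne_zero (Subgroup.index_ne_zero_of_finite (H := H))) ?_
  conv_lhs => rw [← h1]
  rw [Subgroup.card_mul_index, mul_right_comm, Subgroup.card_mul_index, ← K.index_eq_card, mul_comm,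
    Subgroup.card_mul_index]

theorem indFun_comap_mk' {G : Type*} [Group G] [Fintype G] (K : Subgroup G) [K.Normal]
    [Fintype (G ⧸ K)] (H : Subgroup (G ⧸ K)) (f : H → ℂ) (g : G) :
    Cfsg.indFun (H.comap (QuotientGroup.mk' K))
      (fun x => f ((QuotientGroup.mk' K).subgroupComap H x)) g = Cfsg.indFun H f (g : G ⧸ K) := by
  classical
  have hterm : ∀ z : G, extendByZero (H.comap (QuotientGroup.mk' K))
      (fun x => f ((QuotientGroup.mk' K).subgroupComap H x)) (z⁻¹ * g * z) =
      extendByZero H f ((z : G ⧸ K)⁻¹ * (g : G ⧸ K) * (z : G ⧸ K)) := by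
    intro z
    have e : (QuotientGroup.mk' K) (z⁻¹ * g * z) = (z : G ⧸ K)⁻¹ * (g : G ⧸ K) * (z : G ⧸ K) := rfl
    by_cases hz : z⁻¹ * g * z ∈ H.comap (QuotientGroup.mk' K)
    · rw [extendByZero_mem _ _ hz, extendByZero_mem _ _ (e ▸ Subgroup.mem_comap.1 hz)]
      rfl
    · rw [extendByZero_not_mem _ _ hz,
        extendByZero_not_mem _ _ (fun h => hz (Subgroup.mem_comap.2 (e.symm ▸ h)))]
  rw [Cfsg.indFun, Cfsg.indFun, Finset.sum_congr rfl fun z _ => hterm z,
    ← Finset.sum_fiberwise_of_maps_to (s := Finset.univ) (t := Finset.univ)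
      (g := fun z : G => (z : G ⧸ K)) (fun _ _ => Finset.mem_univ _)]
  have hfib : ∀ q : G ⧸ K,
      (Finset.univ.filter fun z : G => (z : G ⧸ K) = q).card = Nat.card K := by
    intro q
    obtain ⟨y, rfl⟩ := QuotientGroup.mk_surjective q
    rw [← Fintype.card_subtype, ← Nat.card_eq_fintype_card]
    refine Nat.card_congr
      { toFun := fun z => ⟨y⁻¹ * z.1, QuotientGroup.eq.1 z.2.symm⟩
        invFun := fun k => ⟨y * k.1, QuotientGroup.eq.2 (by simp)⟩
        left_inv := fun z => Subtype.ext (mul_inv_cancel_left y z.1)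
        right_inv := fun k => Subtype.ext (inv_mul_cancel_left y k.1) }
  rw [Finset.sum_congr rfl (fun q _ => by
    rw [Finset.sum_congr rfl (fun z hz => by rw [(Finset.mem_filter.1 hz).2]), Finset.sum_const,
      hfib q, nsmul_eq_mul]), ← Finset.mul_sum, card_comap_mk', Nat.cast_mul, mul_inv, mul_assoc,
    inv_mul_cancel_left₀ (Nat.cast_ne_zero.2 Nat.card_pos.ne')]

theorem exists_monomial_aux : ∀ (n : ℕ) (G : Type u) [Group G] [Fintype G], Nat.card G = n →
    ∀ (A : Subgroup G) [A.Normal], (∀ x ∈ A, ∀ y ∈ A, x * y = y * x) →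
      Group.IsNilpotent (G ⧸ A) → ∀ χ : IrrCharacter G,
        ∃ (H : Subgroup G) (lam : H →* ℂˣ), (χ : G → ℂ) = Cfsg.indFun H (fun h => (lam h : ℂ)) := by
  intro n
  induction n using Nat.strong_induction_on with
  | _ n ih =>
    intro G _ _ hn A _ hA hnil χ
    classical
    haveI := Fintype.ofFinite A
    obtain ⟨θ, hθ⟩ := exists_constituent (IsCharacter.restrict (IsIrrCharacter.isCharacter χ.2) A)
      (by rw [OneMemClass.coe_one]; exact IsIrrCharacter.apply_one_ne_zero χ.2)
    have hle := le_inertia A (IsIrrCharacter.isClassFunction θ.2)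
    by_cases hT : inertia A (θ : A → ℂ) = ⊤
    · -- `A` is central modulo the kernel
      have hinv : ∀ x : G, CliffordChar.conjFun A x (θ : A → ℂ) = θ := fun x =>
        mem_inertia A |>.1 (hT ▸ Subgroup.mem_top x)
      have hres := restrict_invariant A χ.2 θ.2 hθ hinv
      obtain ⟨l, hl⟩ := exists_hom_of_degree_one (IsIrrCharacter.isCharacter θ.2)
        (apply_one_eq_one_of_comm (fun x y : A => Subtype.ext (hA x x.2 y y.2)) θ)
      have hker : ∀ g : G, ∀ x ∈ A, g * x * g⁻¹ * x⁻¹ ∈ kerSub χ := by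
        intro g x hx
        rw [mem_kerSub]
        let y : A := ⟨g * x * g⁻¹, (inferInstance : A.Normal).conj_mem x hx g⟩ * ⟨x, hx⟩⁻¹
        have e1 := congrFun hres y
        have e2 := congrFun hres 1
        simp only [Pi.smul_apply, smul_eq_mul] at e1 e2
        have hy : (θ : A → ℂ) y = (θ : A → ℂ) 1 := by
          have h3 := (mem_inertia_iff A).1 (hT ▸ Subgroup.mem_top g) ⟨x, hx⟩
          rw [← hl] at h3 ⊢
          show l (⟨g * x * g⁻¹, (inferInstance : A.Normal).conj_mem x hx g⟩ * ⟨x, hx⟩⁻¹) = l 1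
          rw [map_mul, h3, ← map_mul, mul_inv_cancel]
        rw [hy, ← e2, OneMemClass.coe_one] at e1
        exact e1
      set π := QuotientGroup.mk' (kerSub χ) with hπ
      have hAc : A ≤ ((QuotientGroup.mk' (Subgroup.center (G ⧸ kerSub χ))).comp π).ker := by
        intro x hx
        rw [MonoidHom.mem_ker, MonoidHom.comp_apply]
        refine (QuotientGroup.eq_one_iff _).2 (Subgroup.mem_center_iff.2 fun q => ?_)
        obtain ⟨g, rfl⟩ := QuotientGroup.mk'_surjective (kerSub χ) q
        have := (QuotientGroup.eq_one_iff _).2 (hker g x hx)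
        rw [← commutatorElement_eq_one_iff_mul_comm, commutatorElement_def, hπ]
        exact this
      haveI := hnil
      haveI : Group.IsNilpotent ((G ⧸ kerSub χ) ⧸ Subgroup.center (G ⧸ kerSub χ)) :=
        Group.nilpotent_of_surjective (QuotientGroup.lift A _ hAc) (fun q => by
          obtain ⟨q', rfl⟩ := QuotientGroup.mk'_surjective _ q
          obtain ⟨g, rfl⟩ := QuotientGroup.mk'_surjective (kerSub χ) q'
          exact ⟨(g : G ⧸ A), rfl⟩)
      haveI : Group.IsNilpotent (G ⧸ kerSub χ) := Group.of_quotient_center_nilpotent inferInstance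
      haveI := Fintype.ofFinite (G ⧸ kerSub χ)
      obtain ⟨ψ, hψ⟩ := Codegree.exists_quot χ (kerSub χ) le_rfl
      obtain ⟨H, lam, hlam⟩ := monomial_of_isNilpotent ψ.2
      refine ⟨H.comap π, lam.comp (π.subgroupComap H), funext fun g => ?_⟩
      rw [← hψ g, hlam]
      exact (indFun_comap_mk' (kerSub χ) H (fun h => (lam h : ℂ)) g).symm
    -- proper inertia group
    haveI := Fintype.ofFinite (inertia A (θ : A → ℂ))
    obtain ⟨ψ, hψ, hind, -, -⟩ := exists_correspondent A θ.2 χ.2 hθ
    let T : Subgroup G := inertia A (θ : A → ℂ)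
    haveI : Fintype T := ‹Fintype (inertia A (θ : A → ℂ))›
    have hlt : Nat.card T < n := hn ▸ lt_of_le_of_ne (Subgroup.card_le_card_group T)
      (fun e => hT (Subgroup.eq_top_of_card_eq T e))
    have hf : Function.Injective (QuotientGroup.map (A.subgroupOf T) A T.subtype (fun x hx => hx)) := by
      rw [injective_iff_map_eq_one]
      intro x hx
      induction x using QuotientGroup.induction_on with
      | H x =>
        exact (QuotientGroup.eq_one_iff x).2
          (Subgroup.mem_subgroupOf.2 ((QuotientGroup.eq_one_iff _).1 hx))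
    obtain ⟨H, lam, hlam⟩ := ih _ hlt T rfl (A.subgroupOf T)
      (fun x hx y hy => Subtype.ext (hA x (Subgroup.mem_subgroupOf.1 hx) y (Subgroup.mem_subgroupOf.1 hy)))
      (by
        haveI := hnil
        exact Subgroup.isNilpotent_of_ker_le_center
          (QuotientGroup.map (A.subgroupOf T) A T.subtype (fun x hx => hx))
          (by rw [(MonoidHom.ker_eq_bot_iff _).2 hf]; exact bot_le))
      ⟨ψ, hψ⟩
    haveI := Fintype.ofFinite H
    refine ⟨H.map T.subtype,
      lam.comp (H.equivMapOfInjective T.subtype T.subtype_injective).symm.toMonoidHom, ?_⟩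
    rw [← hind, show ψ = _ from hlam, indFun_map_subtype]
    rfl

/-- Over an abelian normal subgroup with nilpotent quotient every character is monomial. -/
theorem exists_monomial {G : Type u} [Group G] [Fintype G] (A : Subgroup G) [A.Normal]
    (hA : ∀ x ∈ A, ∀ y ∈ A, x * y = y * x) [h : Group.IsNilpotent (G ⧸ A)] (χ : IrrCharacter G) :
    ∃ (H : Subgroup G) (lam : H →* ℂˣ), (χ : G → ℂ) = Cfsg.indFun H (fun h => (lam h : ℂ)) :=
  exists_monomial_aux _ G rfl A hA h χ

variable {G : Type u} [Group G] [Finite G] {a b : ℕ}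

/-- The monomial case. -/
theorem derived_three_of_monomial [Fintype G] (h : Deg3 G a b) (hab : a < b)
    (hmon : ∀ χ : IrrCharacter G, ∃ (H : Subgroup G) (lam : H →* ℂˣ),
      (χ : G → ℂ) = Cfsg.indFun H (fun h => (lam h : ℂ))) : derivedSeries G 3 = ⊥ := by
  haveI : (derivedSeries G 2).Normal := derivedSeries_normal G 2
  have h12 : derivedSeries G 2 ≤ commutator G :=
    (derivedSeries_antitone G one_le_two).trans (derivedSeries_one G).le
  have h32 : derivedSeries G 3 ≤ derivedSeries G 2 := derivedSeries_antitone G (by norm_num)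
  have ha : ∀ χ : IrrCharacter G, charDegree (χ : G → ℂ) ≠ b → derivedSeries G 2 ≤ kerSub χ := by
    intro χ hχ
    rcases h χ with h1 | h1 | h1
    · exact h12.trans (commutator_le_kerSub h1)
    · obtain ⟨H, lam, hlam⟩ := hmon χ
      refine le_trans ?_ (le_kerSub_of_monomial (commutator G) χ hlam fun φ hφ => ?_)
      · rw [derivedSeries_succ, derivedSeries_one]
      · rcases h φ with h2 | h2 | h2
        · exact commutator_le_kerSub h2
        all_goals omega
    · exact absurd h1 hχ
  refine eq_bot_of_le_kerSub _ fun χ => ?_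
  by_cases hχ : charDegree (χ : G → ℂ) = b
  · obtain ⟨H, lam, hlam⟩ := hmon χ
    refine le_trans ?_ (le_kerSub_of_monomial (derivedSeries G 2) χ hlam fun φ hφ => ha φ (by omega))
    rw [derivedSeries_succ]
  · exact h32.trans (ha χ hχ)

/-- Only two degrees. -/
theorem derived_two_of_two {m : ℕ}
    (h : ∀ χ : IrrCharacter G, charDegree (χ : G → ℂ) = 1 ∨ charDegree (χ : G → ℂ) = m) :
    derivedSeries G 2 = ⊥ := by
  have hab : ∀ x ∈ commutator G, ∀ y ∈ commutator G, x * y = y * x := by
    by_cases hlin : ∀ χ : IrrCharacter G, charDegree (χ : G → ℂ) = 1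
    · intro x _ y _
      exact comm_of_forall_degree_one (fun θ => by rw [apply_one θ.2, hlin θ, Nat.cast_one]) x y
    · push Not at hlin
      obtain ⟨θ, hθ⟩ := hlin
      exact TwoDegrees.TwoDeg.commutator_comm (m := m)
        ⟨h, ⟨θ, (h θ).resolve_left hθ⟩, fun e => hθ ((h θ).elim id fun e' => e'.trans e)⟩
  rw [derivedSeries_succ, derivedSeries_one, Subgroup.commutator_eq_bot_iff_le_centralizer]
  exact fun x hx y hy => hab y hy x hx

/-- Primes dividing all nonlinear degrees give a common complement. -/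
theorem exists_common_complement (s : Finset ℕ) (hs : ∀ p ∈ s, p.Prime ∧
    ∀ χ : IrrCharacter G, charDegree (χ : G → ℂ) ≠ 1 → p ∣ charDegree (χ : G → ℂ)) :
    ∃ L : Subgroup G, ∃ _ : L.Normal, Group.IsNilpotent (G ⧸ L) ∧ (∀ p ∈ s, ¬ p ∣ Nat.card L) ∧
      ∀ p : ℕ, p.Prime → p ∣ L.index → p ∈ s := by
  classical
  induction s using Finset.induction with
  | empty =>
    refine ⟨⊤, inferInstance, ?_, fun p hp => absurd hp (Finset.notMem_empty p), fun p hp hd => ?_⟩
    · haveI : Subsingleton (G ⧸ (⊤ : Subgroup G)) := QuotientGroup.subsingleton_quotient_top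
      infer_instance
    · exact absurd (Subgroup.index_top (G := G) ▸ hd) hp.not_dvd_one
  | insert p s hps ih =>
    obtain ⟨L, hL, hnil, hcard, hidx⟩ := ih fun q hq => hs q (Finset.mem_insert_of_mem hq)
    obtain ⟨hp, hall⟩ := hs p (Finset.mem_insert_self p s)
    haveI := Fact.mk hp
    obtain ⟨K, hK, hKco, k, hk⟩ := exists_normal_pComplement p hall
    haveI := hK
    haveI := hL
    haveI := hnil
    haveI := (IsPGroup.of_card (p := p) (G := G ⧸ K) (n := k)
      (by rw [← K.index_eq_card, hk])).isNilpotent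
    refine ⟨L ⊓ K, inferInstance, ?_, fun q hq hd => ?_, fun q hq hd => ?_⟩
    · let f : G ⧸ (L ⊓ K) →* (G ⧸ L) × (G ⧸ K) :=
        QuotientGroup.lift (L ⊓ K) ((QuotientGroup.mk' L).prod (QuotientGroup.mk' K)) fun x hx =>
          Prod.ext ((QuotientGroup.eq_one_iff x).2 hx.1) ((QuotientGroup.eq_one_iff x).2 hx.2)
      refine Subgroup.isNilpotent_of_ker_le_center f (le_of_eq_of_le ?_ bot_le)
      rw [MonoidHom.ker_eq_bot_iff, injective_iff_map_eq_one]
      intro x hx
      induction x using QuotientGroup.induction_on with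
      | H x =>
        exact (QuotientGroup.eq_one_iff x).2 ⟨(QuotientGroup.eq_one_iff x).1 (congrArg Prod.fst hx),
          (QuotientGroup.eq_one_iff x).1 (congrArg Prod.snd hx)⟩
    · rcases Finset.mem_insert.1 hq with rfl | hq'
      · exact hp.coprime_iff_not_dvd.1 hKco.symm
          (hd.trans (Subgroup.card_dvd_of_le inf_le_right))
      · exact hcard q hq' (hd.trans (Subgroup.card_dvd_of_le inf_le_left))
    · rw [← Subgroup.relIndex_mul_index (inf_le_left : L ⊓ K ≤ L), Subgroup.inf_relIndex_left] at hd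
      rcases (Nat.Prime.dvd_mul hq).1 hd with h1 | h1
      · have h2 := h1.trans (Subgroup.relIndex_dvd_index_of_normal (H := K) (K := L))
        rw [hk] at h2
        rw [(Nat.prime_dvd_prime_iff_eq hq hp).1 (hq.dvd_of_dvd_pow h2)]
        exact Finset.mem_insert_self p s
      · exact Finset.mem_insert_of_mem (hidx q hq h1)

/-- A constituent between `J` and `M`. -/
theorem exists_between [Fintype G] [Group.IsSolvable G] (J M : Subgroup G) [J.Normal] [Fintype J] [Fintype M]
    (hJM : J ≤ M) {χ : G → ℂ} (hχ : IsIrrCharacter G χ) {θ : J → ℂ} (hθ : IsIrrCharacter J θ)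
    (h : classInner (fun x : J => χ x) θ ≠ 0) :
    ∃ η : IrrCharacter M, classInner (fun x : M => χ x) (η : M → ℂ) ≠ 0 ∧
      charDegree θ ∣ charDegree (η : M → ℂ) ∧
      charDegree (η : M → ℂ) ∣ charDegree θ * J.relIndex M := by
  obtain ⟨η, hη, hη'⟩ := exists_middle_constituent J hJM (IsIrrCharacter.isCharacter hχ) h
  haveI := Fintype.ofFinite (J.subgroupOf M)
  let e := Subgroup.subgroupOfEquivOfLe hJM
  have hin : classInner (fun x : J.subgroupOf M => (η : M → ℂ) (x : M)) (fun x => θ (e x)) ≠ 0 := by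
    rw [show (fun x : J.subgroupOf M => (η : M → ℂ) (x : M)) =
      fun x => (fun x : J => (η : M → ℂ) ⟨(x : G), hJM x.2⟩) (e x) from rfl,
      classInner_comp_equiv e (fun x : J => (η : M → ℂ) ⟨(x : G), hJM x.2⟩) θ]
    exact hη'
  have hdeg : charDegree (fun x : J.subgroupOf M => θ (e x)) = charDegree θ := by simp [charDegree]
  refine ⟨η, hη, ?_, ?_⟩
  · rw [← hdeg]
    exact degree_dvd_of_over (J.subgroupOf M) η.2 (IsIrrCharacter.comp_equiv hθ e) hin
  · rw [← hdeg]
    exact dvd_mul_index (J.subgroupOf M) η.2 (IsIrrCharacter.comp_equiv hθ e) hin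

theorem deg_one_of_commutator_le {G : Type*} [Group G] [Finite G] (θ : IrrCharacter G)
    (h : commutator G ≤ kerSub θ) : charDegree (θ : G → ℂ) = 1 := by
  obtain ⟨ψ, hψ⟩ := Codegree.exists_quot θ (commutator G) h
  have hab : ∀ x y : G ⧸ commutator G, x * y = y * x := fun x y =>
    mul_comm (G := Abelianization G) x y
  have h1 : ((charDegree (θ : G → ℂ) : ℕ) : ℂ) = 1 := by
    rw [← apply_one θ.2, ← hψ 1, QuotientGroup.mk_one]
    exact apply_one_eq_one_of_comm hab ψ
  exact_mod_cast h1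

/-- A constituent of a character trivial on `⁅L, L⁆` is linear. -/
theorem deg_one_of_commutator_le_kerSub [Fintype G] (L : Subgroup G) [Fintype L]
    (χ : IrrCharacter G) (θ : IrrCharacter L)
    (hθ : classInner (fun x : L => (χ : G → ℂ) x) (θ : L → ℂ) ≠ 0) (h : ⁅L, L⁆ ≤ kerSub χ) :
    charDegree (θ : L → ℂ) = 1 := by
  refine deg_one_of_commutator_le θ fun x hx => mem_kerSub.2 ?_
  refine Broline.apply_eq_of_constituent (IsCharacter.restrict (IsIrrCharacter.isCharacter χ.2) L)
    θ.2 hθ (h := x) ?_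
  show (χ : G → ℂ) (x : G) = (χ : G → ℂ) ((1 : L) : G)
  rw [OneMemClass.coe_one]
  refine mem_kerSub.1 (h ?_)
  rw [← Subgroup.map_subtype_commutator]
  exact ⟨x, hx, rfl⟩

/-- One degree becomes linear on `L`. -/
theorem derived_three_of_semi [Fintype G] (h : Deg3 G a b) (L : Subgroup G) [L.Normal] [Fintype L]
    {a' : ℕ} (hL : ∀ θ : IrrCharacter L, charDegree (θ : L → ℂ) = 1 ∨ charDegree (θ : L → ℂ) = a')
    (hov : ∀ (χ : IrrCharacter G) (θ : IrrCharacter L),
      classInner (fun x : L => (χ : G → ℂ) x) (θ : L → ℂ) ≠ 0 →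
        charDegree (χ : G → ℂ) = a → charDegree (θ : L → ℂ) = a')
    (ha' : a' ≠ 1) : derivedSeries G 3 = ⊥ := by
  haveI : (⁅L, L⁆ : Subgroup G).Normal := Subgroup.commutator_normal L L
  have hQ : derivedSeries (G ⧸ ⁅L, L⁆) 2 = ⊥ := by
    refine derived_two_of_two (m := b) fun ψ => ?_
    rcases h.quotient ⁅L, L⁆ ψ with h1 | h1 | h1
    · exact Or.inl h1
    · exfalso
      obtain ⟨θ, hθ⟩ := exists_constituent (IsCharacter.restrict
          (IsIrrCharacter.isCharacter (inflate ⁅L, L⁆ ψ).2) L)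
        (by rw [OneMemClass.coe_one]; exact IsIrrCharacter.apply_one_ne_zero (inflate ⁅L, L⁆ ψ).2)
      exact ha' ((hov _ θ hθ (by rw [deg_inflate, h1])).symm.trans
        (deg_one_of_commutator_le_kerSub L _ θ hθ (le_kerSub_inflate _ ψ)))
    · exact Or.inr h1
  have h2 := (derived_le ⁅L, L⁆ 2 (derived_le_of_quotient _ 2 hQ)).1
  exact le_bot_iff.1 (h2.trans (metabelian_of_two L a' hL).le)

/-- The case of a `p`-group section. -/
theorem false_of_pSection [Fintype G] [Group.IsSolvable G] (h : Deg3 G a b) (ha : 1 < a) (hb : 1 < b)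
    {p : ℕ} (hp : p.Prime) (K : Subgroup G) [K.Normal] (hK : IsPGroup p (G ⧸ K))
    (hpb : ¬ p ∣ b) (ψ : IrrCharacter (G ⧸ K)) (hψ : charDegree (ψ : G ⧸ K → ℂ) = a)
    (χ : IrrCharacter G) (hχ : charDegree (χ : G → ℂ) = b) : False := by
  haveI := Fintype.ofFinite K
  haveI := Fact.mk hp
  obtain ⟨k, hk⟩ := IsPGroup.iff_card.1 hK
  have hco : (charDegree (χ : G → ℂ)).Coprime K.index := by
    rw [hχ, K.index_eq_card, hk]
    exact ((hp.coprime_iff_not_dvd.2 hpb).symm).pow_right k
  have hirr := gallagher_irr K χ.2 (restrict_irr_of_coprime K χ.2 hco) (inflate K ψ).2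
    (fun n => mem_kerSub.1 (le_kerSub_inflate K ψ n.2))
  have hd : charDegree ((χ : G → ℂ) * (inflate K ψ : G → ℂ)) = b * a := by
    have h1 := apply_one hirr
    rw [Pi.mul_apply, apply_one χ.2, apply_one (inflate K ψ).2, deg_inflate, hχ, hψ] at h1
    exact_mod_cast h1.symm
  have h2 : a < b * a := lt_mul_of_one_lt_left (by omega) hb
  have h3 : b < b * a := lt_mul_of_one_lt_right (by omega) ha
  rcases h ⟨_, hirr⟩ with e | e | e <;> (change charDegree ((χ : G → ℂ) * (inflate K ψ : G → ℂ)) = _ at e) <;>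
    omega

/-- The Frobenius type case. -/
theorem derived_three_of_frobSection [Fintype G] [Group.IsSolvable G] (h : Deg3 G a b)
    (L : Subgroup G) [L.Normal] [Fintype L] {a' b' q : ℕ} {K N : Subgroup G}
    (hs : FrobSection G N.index K N q) (hidxa : N.index = a) (hGL : commutator G ≤ L)
    (hova : ∀ (χ : IrrCharacter G) (θ : IrrCharacter L),
      classInner (fun x : L => (χ : G → ℂ) x) (θ : L → ℂ) ≠ 0 →
        charDegree (χ : G → ℂ) = a → charDegree (θ : L → ℂ) = a')
    (hovb : ∀ (χ : IrrCharacter G) (θ : IrrCharacter L),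
      classInner (fun x : L => (χ : G → ℂ) x) (θ : L → ℂ) ≠ 0 →
        charDegree (χ : G → ℂ) = b → charDegree (θ : L → ℂ) = b')
    (hcob : a'.Coprime b) (hcoa : b'.Coprime a) : derivedSeries G 3 = ⊥ := by
  haveI := hs.N_normal
  haveI := Fintype.ofFinite N
  have hJ : derivedSeries G 1 ≤ N ⊓ L := derivedSeries_one G ▸ le_inf hs.comm_le hGL
  haveI := Fintype.ofFinite (N ⊓ L : Subgroup G)
  refine le_bot_iff.1 ((derived_le (N ⊓ L) 1 hJ).2.trans (metabelian_of_two (N ⊓ L) b' fun θ => ?_).le)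
  obtain ⟨χ, hχ, hover⟩ := exists_over (N ⊓ L) θ.2
  obtain ⟨ψ, hψ, hψd, -⟩ := exists_between (N ⊓ L) N inf_le_left hχ θ.2 hover
  obtain ⟨η, hη, hηd, hηi⟩ := exists_between (N ⊓ L) L inf_le_right hχ θ.2 hover
  rcases h ⟨χ, hχ⟩ with h1 | h1 | h1
  · exact Or.inl (Nat.dvd_one.1 (h1 ▸ degree_dvd_of_over (N ⊓ L) hχ θ.2 hover))
  · left
    rw [hova ⟨χ, hχ⟩ η hη h1] at hηd
    by_contra hne
    obtain ⟨r, hr, hrd⟩ := Nat.exists_prime_and_dvd hne
    exact false_of_frobSection h hs hidxa hr
      (fun hrb => hr.not_dvd_one (hcob ▸ Nat.dvd_gcd (hrd.trans hηd) hrb)) ψ (hrd.trans hψd)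
  · right
    rw [hovb ⟨χ, hχ⟩ η hη h1] at hηd hηi
    refine Nat.dvd_antisymm hηd ((Nat.Coprime.coprime_dvd_right ?_ hcoa).dvd_of_dvd_mul_right hηi)
    rw [Subgroup.inf_relIndex_right, ← hidxa]
    exact Subgroup.relIndex_dvd_index_of_normal (H := N) (K := L)

/-- **Three character degrees give derived length at most three.** -/
theorem derivedSeries_three (h : Deg3 G a b) : derivedSeries G 3 = ⊥ := by
  classical
  haveI := Fintype.ofFinite G
  haveI : Group.IsSolvable G := isSolvable_of_deg3 h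
  by_cases htwo : ∃ m : ℕ, ∀ χ : IrrCharacter G,
      charDegree (χ : G → ℂ) = 1 ∨ charDegree (χ : G → ℂ) = m
  · obtain ⟨m, hm⟩ := htwo
    exact le_bot_iff.1 ((derivedSeries_antitone G (show 2 ≤ 3 by norm_num)).trans
      (derived_two_of_two hm).le)
  push Not at htwo
  have hatt : ∀ x y : ℕ, Deg3 G x y →
      1 < x ∧ ∃ χ : IrrCharacter G, charDegree (χ : G → ℂ) = x := by
    intro x y hd
    obtain ⟨χ, hχ1, hχy⟩ := htwo y
    have hx := ((hd χ).resolve_left hχ1).resolve_right hχy
    have hpos := TwoClassChar.deg_pos χ.2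
    exact ⟨by omega, χ, hx⟩
  obtain ⟨ha, χa, hχa⟩ := hatt a b h
  obtain ⟨hb, χb, hχb⟩ := hatt b a h.symm
  have hne : a ≠ b := by
    intro e
    obtain ⟨χ, hχ1, hχb'⟩ := htwo b
    exact hχb' (((h χ).resolve_left hχ1).elim (fun e' => e'.trans e) id)
  obtain ⟨L, hL, hnil, hLcard, hLidx⟩ := exists_common_complement (G := G) (Nat.gcd a b).primeFactors
    fun p hp => ⟨Nat.prime_of_mem_primeFactors hp, fun χ hχ => by
      rcases (h χ).resolve_left hχ with e | e <;> rw [e]
      · exact (Nat.dvd_of_mem_primeFactors hp).trans (Nat.gcd_dvd_left a b)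
      · exact (Nat.dvd_of_mem_primeFactors hp).trans (Nat.gcd_dvd_right a b)⟩
  haveI := hL
  haveI := hnil
  haveI := Fintype.ofFinite L
  have hco : (Nat.card L).Coprime L.index :=
    Nat.coprime_of_dvd fun p hp h1 h2 => hLcard p (hLidx p hp h2) h1
  obtain ⟨a', b', hL3, hov⟩ := exists_deg3 L hco h
  have hex : ∀ χ : IrrCharacter G, ∃ θ : IrrCharacter L,
      classInner (fun x : L => (χ : G → ℂ) x) (θ : L → ℂ) ≠ 0 := fun χ =>
    exists_constituent (IsCharacter.restrict (IsIrrCharacter.isCharacter χ.2) L)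
      (by rw [OneMemClass.coe_one]; exact IsIrrCharacter.apply_one_ne_zero χ.2)
  -- a prime divisor of `a'` does not divide `b`
  have hcross : ∀ (x y x' : ℕ) (χ : IrrCharacter G) (θ : IrrCharacter L),
      classInner (fun z : L => (χ : G → ℂ) z) (θ : L → ℂ) ≠ 0 → charDegree (χ : G → ℂ) = x →
      charDegree (θ : L → ℂ) = x' → Nat.gcd x y = Nat.gcd a b →
      x' ∣ x ∧ x' ∣ Nat.card L ∧ x'.Coprime y := by
    intro x y x' χ θ hθ hx hx' hg
    have h1 : x' ∣ x := hx ▸ hx' ▸ degree_dvd_of_over L χ.2 θ.2 hθ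
    have h2 : x' ∣ Nat.card L := hx' ▸ Codegree.deg_dvd_card θ
    refine ⟨h1, h2, Nat.coprime_of_dvd fun r hr hr1 hr2 => hLcard r ?_ (hr1.trans h2)⟩
    refine Nat.mem_primeFactors.2 ⟨hr, hg ▸ Nat.dvd_gcd (hr1.trans h1) hr2, ?_⟩
    exact Nat.gcd_ne_zero_left (by omega)
  obtain ⟨θa, hθa⟩ := hex χa
  obtain ⟨θb, hθb⟩ := hex χb
  obtain ⟨ha'a, ha'L, hcob⟩ := hcross a b a' χa θa hθa hχa ((hov χa θa hθa).1 hχa) rfl
  obtain ⟨hb'b, hb'L, hcoa⟩ := hcross b a b' χb θb hθb hχb ((hov χb θb hθb).2 hχb) (Nat.gcd_comm b a)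
  by_cases ha' : a' = 1
  · by_cases hb' : b' = 1
    · have hab : ∀ x ∈ L, ∀ y ∈ L, x * y = y * x := fun x hx y hy => congrArg Subtype.val
        (comm_of_forall_degree_one (fun θ => by
          rw [apply_one θ.2]
          rcases hL3 θ with e | e | e <;> simp [e, ha', hb']) (⟨x, hx⟩ : L) ⟨y, hy⟩)
      rcases Nat.lt_or_gt_of_ne hne with hlt | hlt
      · exact derived_three_of_monomial h hlt (exists_monomial L hab)
      · exact derived_three_of_monomial h.symm hlt (exists_monomial L hab)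
    · exact derived_three_of_semi h.symm L
        (fun θ => by rcases hL3 θ with e | e | e <;> omega) (fun χ θ hθ => (hov χ θ hθ).2) hb'
  by_cases hb' : b' = 1
  · exact derived_three_of_semi h L
      (fun θ => by rcases hL3 θ with e | e | e <;> omega) (fun χ θ hθ => (hov χ θ hθ).1) ha'
  -- the quotient by `L` is abelian
  have hGL : commutator G ≤ L := by
    refine derivedSeries_one G ▸ derived_le_of_quotient L 1 ?_
    rw [derivedSeries_one, commutator_def, Subgroup.commutator_eq_bot_iff_le_centralizer]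
    refine fun x _ y _ => ?_
    refine comm_of_forall_degree_one (fun ψ => ?_) y x
    rw [apply_one ψ.2, Nat.cast_eq_one, ← deg_inflate L ψ]
    obtain ⟨θ, hθ⟩ := hex (inflate L ψ)
    have hθ1 : charDegree (θ : L → ℂ) = 1 :=
      deg_one_of_commutator_le_kerSub L _ θ hθ
        ((Subgroup.commutator_le_self L).trans (le_kerSub_inflate L ψ))
    rcases h (inflate L ψ) with e | e | e
    · exact e
    · exact absurd (((hov _ θ hθ).1 e).symm.trans hθ1) ha'
    · exact absurd (((hov _ θ hθ).2 e).symm.trans hθ1) hb'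
  by_cases hG : commutator G = ⊥
  · refine le_bot_iff.1 ((derivedSeries_antitone G (show 1 ≤ 3 by norm_num)).trans ?_)
    rw [derivedSeries_one, hG]
  obtain ⟨K, hKn, -, hKc, hKm⟩ := exists_max_section (⊥ : Subgroup G) (fun hle => hG (le_bot_iff.1 hle))
  haveI := hKn
  rcases section_dichotomy h K hKc hKm with ⟨p, hp, hpK⟩ | ⟨N, q, hs, hN⟩
  · exfalso
    obtain ⟨ψ, hψ⟩ : ∃ ψ : IrrCharacter (G ⧸ K), charDegree (ψ : G ⧸ K → ℂ) ≠ 1 := by
      by_contra hh
      push Not at hh
      refine hKc (derivedSeries_one G ▸ derived_le_of_quotient K 1 ?_)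
      rw [derivedSeries_one, commutator_def, Subgroup.commutator_eq_bot_iff_le_centralizer]
      refine fun x _ y _ => ?_
      exact comm_of_forall_degree_one (fun φ => by rw [apply_one φ.2, hh φ, Nat.cast_one]) y x
    haveI := Fact.mk hp
    obtain ⟨k, hk⟩ := IsPGroup.iff_card.1 hpK
    obtain ⟨i, -, hi⟩ := (Nat.dvd_prime_pow hp).1 (hk ▸ Codegree.deg_dvd_card ψ)
    have hstep : ∀ x y x' : ℕ, charDegree (ψ : G ⧸ K → ℂ) = x → x' ∣ x → x' ≠ 1 → x'.Coprime y →
        ¬ p ∣ y := by
      intro x y x' hx h1 h2 h3 hpy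
      rw [← hx, hi] at h1
      obtain ⟨j, -, rfl⟩ := (Nat.dvd_prime_pow hp).1 h1
      have hj : j ≠ 0 := fun e => h2 (by rw [e, pow_zero])
      exact hp.not_dvd_one (h3 ▸ Nat.dvd_gcd (dvd_pow_self p hj) hpy)
    rcases (h.quotient K ψ).resolve_left hψ with e | e
    · exact false_of_pSection h ha hb hp K hpK (hstep a b a' e ha'a ha' hcob) ψ e χb hχb
    · exact false_of_pSection h.symm hb ha hp K hpK (hstep b a b' e hb'b hb' hcoa) ψ e χa hχa
  · rcases hN with e | e
    · exact derived_three_of_frobSection h L hs e hGL (fun χ θ hθ => (hov χ θ hθ).1)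
        (fun χ θ hθ => (hov χ θ hθ).2) hcob hcoa
    · exact derived_three_of_frobSection h.symm L hs e hGL (fun χ θ hθ => (hov χ θ hθ).2)
        (fun χ θ hθ => (hov χ θ hθ).1) hcoa hcob

end Cfsg.Agent.CharApp.ThreeDegrees
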